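import Cfsg.Agent.Coprime.Basic

/-!
Generation by centralisers in coprime action.

* `le_of_centralizers_le` : if `a`, `b` normalise `K` and act as commuting elements of prime order
  dividing `r` on it, then `K` is generated by the fixed points of `a` and of the `a ^ k * b`.
* `iSup_centralizer_eq` : `K = ⟨C_K(a) | a ∈ A, a ≠ 1⟩` for noncyclic abelian `A`.
* `iSup_cocyclic_centralizer_eq`, `iSup_cocyclic_commutator_eq` : the cocyclic versions.
-/

set_option autoImplicit false

open Subgroup
open scoped Pointwise commutatorElement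

namespace Cfsg.Agent.Coprime

universe u

section Abelian

variable {V : Type u} [CommGroup V]

private theorem prod_fixed {γ : MulAut V} {r : ℕ} (hγ : γ ^ r = 1) (v : V) :
    γ (∏ k ∈ Finset.range r, (γ ^ k) v) = ∏ k ∈ Finset.range r, (γ ^ k) v := by
  cases r with
  | zero => simp
  | succ n =>
    rw [map_prod]
    have h : ∀ k : ℕ, γ ((γ ^ k) v) = (γ ^ (k + 1)) v := fun k => by
      rw [pow_succ']; rfl
    rw [Finset.prod_congr rfl (fun k _ => h k), Finset.prod_range_succ, hγ,
      Finset.prod_range_succ' (fun k => (γ ^ k) v) n, pow_zero]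

/-- The averaging identity behind generation by fixed points. -/
theorem pow_mem_closure_fixed {α β : MulAut V} {r : ℕ} (hr : r.Prime) (hα : α ^ r = 1)
    (hβ : β ^ r = 1) (hc : Commute α β) (v : V) :
    v ^ r ∈ closure {w : V | α w = w ∨ ∃ k : ℕ, (α ^ k * β) w = w} := by
  set S : Set V := {w : V | α w = w ∨ ∃ k : ℕ, (α ^ k * β) w = w}
  have hγ : ∀ k : ℕ, (α ^ k * β) ^ r = 1 := fun k => by
    rw [(hc.pow_left k).mul_pow, ← pow_mul, mul_comm, pow_mul, hα, one_pow, hβ, one_mul]
  have hterm : ∀ k j : ℕ, ((α ^ k * β) ^ j) v = (β ^ j) (((α ^ j) ^ k) v) := fun k j => by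
    rw [(hc.pow_left k).mul_pow, ← pow_mul, mul_comm k j, pow_mul, ((hc.pow_pow j j).pow_left k).eq]
    rfl
  have hbig : (∏ k ∈ Finset.range r, ∏ j ∈ Finset.range r, ((α ^ k * β) ^ j) v) ∈ closure S :=
    Subgroup.prod_mem _ fun k _ => Subgroup.subset_closure (Or.inr ⟨k, prod_fixed (hγ k) v⟩)
  rw [Finset.prod_comm, ← Finset.prod_erase_mul _ _ (Finset.mem_range.mpr hr.pos)] at hbig
  have h0 : ∏ k ∈ Finset.range r, ((α ^ k * β) ^ 0) v = v ^ r := by simp
  rw [h0] at hbig
  refine (Subgroup.mul_mem_cancel_left _ (Subgroup.prod_mem _ fun j hj => ?_)).mp hbig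
  obtain ⟨hj0, hjr⟩ := Finset.mem_erase.mp hj
  rw [Finset.mem_range] at hjr
  rw [Finset.prod_congr rfl (fun k _ => hterm k j), ← map_prod]
  refine Subgroup.subset_closure (Or.inl ?_)
  set w := ∏ k ∈ Finset.range r, ((α ^ j) ^ k) v with hw
  have h1 : (α ^ j) w = w := prod_fixed (by rw [← pow_mul, mul_comm, pow_mul, hα, one_pow]) v
  have hcop : j.Coprime (orderOf α) := by
    refine Nat.Coprime.coprime_dvd_right (orderOf_dvd_of_pow_eq_one hα) ?_
    exact (hr.coprime_iff_not_dvd.mpr (Nat.not_dvd_of_pos_of_lt (Nat.pos_of_ne_zero hj0) hjr)).symm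
  obtain ⟨m, hm⟩ := exists_pow_eq_self_of_coprime hcop
  have h2 : α w = w := by
    have hst : α ∈ MulAction.stabilizer (MulAut V) w := hm ▸ pow_mem (show α ^ j ∈ _ from h1) m
    exact hst
  calc α ((β ^ j) w) = (α * β ^ j) w := rfl
    _ = (β ^ j * α) w := by rw [(hc.pow_right j).eq]
    _ = (β ^ j) (α w) := rfl
    _ = (β ^ j) w := by rw [h2]

/-- A finite noncyclic abelian group contains `Z_r × Z_r`. -/
theorem exists_two_generated_of_not_isCyclic {Q : Type u} [CommGroup Q] [Finite Q]
    (h : ¬ IsCyclic Q) :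
    ∃ r : ℕ, r.Prime ∧ ∃ a b : Q, a ^ r = 1 ∧ b ^ r = 1 ∧ a ≠ 1 ∧ b ∉ zpowers a := by
  obtain ⟨x, hx⟩ := Monoid.exists_orderOf_eq_exponent
    (Monoid.ExponentExists.of_finite : Monoid.ExponentExists Q)
  have hne : zpowers x ≠ ⊤ := fun ht => h ⟨x, fun y => by
    have : y ∈ zpowers x := ht ▸ Subgroup.mem_top y
    exact this⟩
  have hc1 : Nat.card (Q ⧸ zpowers x) ≠ 1 := by
    rw [← Subgroup.index_eq_card]
    exact fun h1 => hne (Subgroup.index_eq_one.mp h1)
  obtain ⟨r, hr, hdvd⟩ := Nat.exists_prime_and_dvd hc1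
  have := Fact.mk hr
  obtain ⟨q, hq⟩ := exists_prime_orderOf_dvd_card' r hdvd
  obtain ⟨y, rfl⟩ := QuotientGroup.mk_surjective q
  have hyr : y ^ r ∈ zpowers x := by
    rw [← QuotientGroup.eq_one_iff, QuotientGroup.mk_pow, ← hq, pow_orderOf_eq_one]
  have hyn : y ∉ zpowers x := by
    intro hy
    rw [(QuotientGroup.eq_one_iff y).mpr hy, orderOf_one] at hq
    exact hr.ne_one hq.symm
  have hre : r ∣ Monoid.exponent Q := by
    refine dvd_trans ?_ (Monoid.order_dvd_exponent y)
    rw [← hq]
    exact orderOf_map_dvd (QuotientGroup.mk' (zpowers x)) y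
  obtain ⟨e, he⟩ := hre
  have hepos : 0 < Monoid.exponent Q := hx ▸ orderOf_pos x
  have he0 : 0 < e := Nat.pos_of_ne_zero fun h0 => by
    rw [he, h0, mul_zero] at hepos
    exact lt_irrefl _ hepos
  obtain ⟨m, hm⟩ := mem_zpowers_iff.mp hyr
  have hme : x ^ (m * e) = 1 := by
    rw [zpow_mul, hm, zpow_natCast, ← pow_mul, ← he, Monoid.pow_exponent_eq_one]
  have hdvd2 : (r : ℤ) ∣ m := by
    have h2 : ((r * e : ℕ) : ℤ) ∣ m * e := by
      rw [← he, ← hx]
      exact orderOf_dvd_iff_zpow_eq_one.mpr hme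
    rw [Nat.cast_mul] at h2
    exact Int.dvd_of_mul_dvd_mul_right (by exact_mod_cast he0.ne') h2
  obtain ⟨d, rfl⟩ := hdvd2
  have hae : x ^ e ≠ 1 := fun h1 => by
    have h2 := Nat.le_of_dvd he0 (orderOf_dvd_of_pow_eq_one h1)
    rw [hx, he] at h2
    nlinarith [hr.two_le]
  refine ⟨r, hr, x ^ e, y * (x ^ d)⁻¹, ?_, ?_, hae, ?_⟩
  · rw [← pow_mul, mul_comm, ← he, Monoid.pow_exponent_eq_one]
  · rw [mul_pow, inv_pow, ← zpow_natCast (x ^ d), ← zpow_mul, mul_comm d, hm, mul_inv_cancel]
  · intro hmem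
    refine hyn ?_
    have hle : zpowers (x ^ e) ≤ zpowers x := zpowers_le.mpr (pow_mem (mem_zpowers x) e)
    have := (zpowers x).mul_mem (hle hmem) (zpow_mem (mem_zpowers x) d)
    rwa [inv_mul_cancel_right] at this

end Abelian

variable {G : Type u} [Group G] [Finite G]

theorem le_of_forall_sylow_le {K W : Subgroup G}
    (h : ∀ p : ℕ, p.Prime → ∃ P : Sylow p K, (P : Subgroup K).map K.subtype ≤ W) : K ≤ W := by
  rw [← subgroupOf_eq_top]
  refine Subgroup.eq_top_of_card_eq _ (Nat.dvd_antisymm (Subgroup.card_subgroup_dvd_card _) ?_)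
  refine (Nat.factorization_le_iff_dvd Nat.card_pos.ne' Nat.card_pos.ne').mp ?_
  intro p
  by_cases hp : p.Prime
  · have := Fact.mk hp
    obtain ⟨P, hP⟩ := h p hp
    have hle : (P : Subgroup K) ≤ W.subgroupOf K := fun x hx => hP (mem_map_of_mem _ hx)
    have := Subgroup.card_dvd_of_le hle
    rw [P.card_eq_multiplicity] at this
    exact (hp.pow_dvd_iff_le_factorization Nat.card_pos.ne').mp this
  · simp [Nat.factorization_eq_zero_of_not_prime _ hp]

private theorem le_of_centralizers_le_step {K W : Subgroup G} {a b : G} (hab : Commute a b)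
    (haK : a ∈ normalizer (K : Set G)) (hbK : b ∈ normalizer (K : Set G)) {r : ℕ} (hr : r.Prime)
    (har : a ^ r ∈ centralizer (K : Set G)) (hbr : b ^ r ∈ centralizer (K : Set G))
    (hrK : r.Coprime (Nat.card K))
    (hcopK : (Nat.card (closure {a, b} : Subgroup G)).Coprime (Nat.card K))
    (hder : ⁅K, K⁆ ≤ W) (ha : K ⊓ centralizer {a} ≤ W)
    (hk : ∀ k : ℕ, K ⊓ centralizer {a ^ k * b} ≤ W) : K ≤ W := by
  let cj : normalizer (K : Set G) →* MulAut K := K.normalizerMonoidHom
  let φ : normalizer (K : Set G) →* MulAut (Abelianization K) :=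
    { toFun := fun g => (cj g).abelianizationCongr
      map_one' := by
        rw [map_one]
        exact abelianizationCongr_refl
      map_mul' := fun g h => by
        rw [map_mul]
        exact (abelianizationCongr_trans _ _).symm }
  set a' : normalizer (K : Set G) := ⟨a, haK⟩ with ha'
  set b' : normalizer (K : Set G) := ⟨b, hbK⟩ with hb'
  have hcent : ∀ g : normalizer (K : Set G), (g : G) ∈ centralizer (K : Set G) → φ g = 1 := by
    intro g hg
    have hcj1 : cj g = 1 := by
      rw [← MonoidHom.mem_ker]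
      change g ∈ K.normalizerMonoidHom.ker
      rw [normalizerMonoidHom_ker]
      exact hg
    change (cj g).abelianizationCongr = 1
    rw [hcj1]
    exact abelianizationCongr_refl
  have h1 : (φ a') ^ r = 1 := by rw [← map_pow]; exact hcent _ (by simpa [ha'] using har)
  have h2 : (φ b') ^ r = 1 := by rw [← map_pow]; exact hcent _ (by simpa [hb'] using hbr)
  have h3 : Commute (φ a') (φ b') := (show Commute a' b' from Subtype.ext hab.eq).map φ
  have hAcomm : Group.IsSolvable (closure {a, b} : Subgroup G) := by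
    have : IsMulCommutative (closure {a, b} : Subgroup G) := by
      refine Subgroup.isMulCommutative_closure ?_
      rintro x (rfl | rfl) y (rfl | rfl) <;> first | exact rfl | exact hab.eq | exact hab.eq.symm
    exact Group.isSolvable_of_comm fun x y => IsMulCommutative.is_comm.comm x y
  have hmap : (commutator K).map K.subtype = ⁅K, K⁆ := Subgroup.map_subtype_commutator K
  -- a fixed point of `γ` in the abelianisation comes from a fixed point in `K`
  have key : ∀ g : normalizer (K : Set G), (g : G) ∈ closure {a, b} →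
      K ⊓ centralizer {(g : G)} ≤ W → ∀ v : Abelianization K, φ g v = v →
      v ∈ (W.subgroupOf K).map Abelianization.of := by
    intro g hgA hgW v hv
    obtain ⟨x, rfl⟩ : ∃ x, Abelianization.of x = v := QuotientGroup.mk'_surjective _ v
    have hzle : zpowers (g : G) ≤ closure {a, b} := zpowers_le.mpr hgA
    have hfix : ∀ c ∈ zpowers (g : G),
        (x : G)⁻¹ * (c * x * c⁻¹) ∈ ⁅K, K⁆ := by
      intro c hc
      obtain ⟨i, rfl⟩ := mem_zpowers_iff.mp hc
      have hstab : φ (g ^ i) (Abelianization.of x) = Abelianization.of x := by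
        have hg : φ g ∈ MulAction.stabilizer (MulAut (Abelianization K)) (Abelianization.of x) := hv
        rw [map_zpow]
        exact zpow_mem hg i
      have hker : x⁻¹ * cj (g ^ i) x ∈ commutator K := by
        rw [← Abelianization.ker_of, MonoidHom.mem_ker, map_mul, map_inv]
        rw [show Abelianization.of (cj (g ^ i) x) = φ (g ^ i) (Abelianization.of x) from rfl,
          hstab, inv_mul_cancel]
      have := mem_map_of_mem K.subtype hker
      rw [hmap] at this
      exact this
    obtain ⟨n, hn, hnc⟩ := exists_fixed_mem_leftCoset (N := ⁅K, K⁆) (A := zpowers (g : G))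
      (zpowers_le.mpr (by
        apply mem_normalizer_of_conj_smul_eq
        rw [conj_smul_eq_map, map_commutator, ← conj_smul_eq_map,
          conj_smul_eq_self_of_mem_normalizer g.2]))
      ((hcopK.coprime_dvd_left (card_dvd_of_le hzle)).coprime_dvd_right
        (card_dvd_of_le (commutator_le_self K)))
      (Or.inl (isSolvable_of_le hzle hAcomm)) hfix
    rw [← hmap] at hn
    obtain ⟨n', hn', rfl⟩ := hn
    refine ⟨x * n', ?_, ?_⟩
    · exact hgW ⟨(x * n').2, fun y hy => by
        rw [Set.mem_singleton_iff] at hy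
        subst hy
        exact mem_centralizer_iff.mp hnc _ (mem_zpowers _)⟩
    · rw [← Abelianization.ker_of] at hn'
      rw [map_mul, MonoidHom.mem_ker.mp hn', mul_one]
  have hVcop : r.Coprime (Nat.card (Abelianization K)) :=
    hrK.coprime_dvd_right (Subgroup.card_quotient_dvd_card _)
  have hclos : closure {w : Abelianization K | φ a' w = w ∨
      ∃ k : ℕ, ((φ a') ^ k * φ b') w = w} ≤ (W.subgroupOf K).map Abelianization.of := by
    rw [closure_le]
    rintro w (hw | ⟨k, hw⟩)
    · exact key a' (Subgroup.subset_closure (Or.inl rfl)) ha w hw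
    · refine key (a' ^ k * b') ?_ ?_ w ?_
      · simp only [Subgroup.coe_mul, SubmonoidClass.coe_pow, ha', hb']
        have hma : a ∈ closure ({a, b} : Set G) := Subgroup.subset_closure (Set.mem_insert a {b})
        have hmb : b ∈ closure ({a, b} : Set G) :=
          Subgroup.subset_closure (Set.mem_insert_of_mem a (Set.mem_singleton b))
        exact Subgroup.mul_mem _ (Subgroup.pow_mem _ hma k) hmb
      · simpa [ha', hb'] using hk k
      · rw [map_mul, map_pow]; exact hw
  intro x hx
  obtain ⟨v, hv⟩ := (powCoprime hVcop.symm).surjective (Abelianization.of (⟨x, hx⟩ : K))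
  have hmem : Abelianization.of (⟨x, hx⟩ : K) ∈ (W.subgroupOf K).map Abelianization.of := by
    rw [← hv]
    exact hclos (pow_mem_closure_fixed hr h1 h2 h3 v)
  obtain ⟨y, hy, hyx⟩ := hmem
  have hd : y⁻¹ * (⟨x, hx⟩ : K) ∈ commutator K := by
    rw [← Abelianization.ker_of, MonoidHom.mem_ker, map_mul, map_inv, hyx, inv_mul_cancel]
  have h4 : (y : G)⁻¹ * x ∈ W := hder (hmap ▸ mem_map_of_mem K.subtype hd)
  have := W.mul_mem (mem_subgroupOf.mp hy) h4
  rwa [mul_inv_cancel_left] at this

/-- If `a` and `b` commute, normalise `K` and have `r`-th powers centralising `K` (`r` a prime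
not dividing the order of `K`), then `K` is generated by the fixed points of `a` and of the
`a ^ k * b`. -/
theorem le_of_centralizers_le {K W : Subgroup G} {a b : G} (hab : Commute a b)
    (haK : a ∈ normalizer (K : Set G)) (hbK : b ∈ normalizer (K : Set G)) {r : ℕ} (hr : r.Prime)
    (har : a ^ r ∈ centralizer (K : Set G)) (hbr : b ^ r ∈ centralizer (K : Set G))
    (hrK : r.Coprime (Nat.card K))
    (hcopK : (Nat.card (closure {a, b} : Subgroup G)).Coprime (Nat.card K))
    (ha : K ⊓ centralizer {a} ≤ W) (hk : ∀ k : ℕ, K ⊓ centralizer {a ^ k * b} ≤ W) : K ≤ W := by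
  induction K using WellFoundedLT.induction with
  | _ K ih =>
  set A : Subgroup G := closure {a, b}
  have hAK : A ≤ normalizer (K : Set G) := by
    rw [closure_le]
    rintro x (rfl | rfl) <;> assumption
  have hA : Group.IsSolvable A := by
    have : IsMulCommutative A := by
      refine Subgroup.isMulCommutative_closure ?_
      rintro x (rfl | rfl) y (rfl | rfl) <;> first | exact rfl | exact hab.eq | exact hab.eq.symm
    exact Group.isSolvable_of_comm fun x y => IsMulCommutative.is_comm.comm x y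
  have descend : ∀ K₁ : Subgroup G, K₁ < K → A ≤ normalizer (K₁ : Set G) → K₁ ≤ W := by
    intro K₁ hlt hn
    have hdvd := card_dvd_of_le hlt.le
    exact ih K₁ hlt (hn (Subgroup.subset_closure (Or.inl rfl))) (hn (Subgroup.subset_closure (Or.inr rfl)))
      (centralizer_le hlt.le har) (centralizer_le hlt.le hbr) (hrK.coprime_dvd_right hdvd)
      (hcopK.coprime_dvd_right hdvd) ((inf_le_inf_right _ hlt.le).trans ha)
      (fun k => (inf_le_inf_right _ hlt.le).trans (hk k))
  by_cases hsyl : ∀ p : ℕ, p.Prime → ∃ P : Sylow p K,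
      A ≤ normalizer ((P : Subgroup K).map K.subtype : Set G) ∧ (P : Subgroup K).map K.subtype < K
  · refine le_of_forall_sylow_le fun p hp => ?_
    obtain ⟨P, hPA, hPlt⟩ := hsyl p hp
    exact ⟨P, descend _ hPlt hPA⟩
  push Not at hsyl
  obtain ⟨p, hp, hP⟩ := hsyl
  have := Fact.mk hp
  obtain ⟨P, hPA⟩ := exists_invariant_sylow hAK hcopK (Or.inl hA) p
  have hPK : (P : Subgroup K).map K.subtype = K :=
    eq_of_le_of_not_lt (map_subtype_le _) (hP P hPA)
  have hKp : IsPGroup p K := hPK ▸ P.2.map _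
  by_cases hbot : K = ⊥
  · rw [hbot]; exact bot_le
  have := hKp.isNilpotent
  have : Nontrivial K := (nontrivial_iff_ne_bot K).mpr hbot
  have hlt : ⁅K, K⁆ < K := by
    have h : commutator K < ⊤ := Group.IsSolvable.commutator_lt_top_of_nontrivial K
    have := (map_lt_map_iff_of_injective K.subtype_injective).mpr h
    rwa [map_subtype_commutator, ← MonoidHom.range_eq_map, range_subtype] at this
  refine le_of_centralizers_le_step hab haK hbK hr har hbr hrK hcopK ?_ ha hk
  refine descend _ hlt fun g hg => mem_normalizer_of_conj_smul_eq ?_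
  rw [conj_smul_eq_map, map_commutator, ← conj_smul_eq_map,
    conj_smul_eq_self_of_mem_normalizer (hAK hg)]

/-- Finds `a`, `b` in a noncyclic abelian `A`, modulo a subgroup `D`. -/
theorem exists_pair {A D : Subgroup G} [IsMulCommutative A]
    (h : ∀ a ∈ A, (A ⊓ D) ⊔ zpowers a ≠ A) :
    ∃ r : ℕ, r.Prime ∧ r ∣ Nat.card A ∧ ∃ a ∈ A, ∃ b ∈ A, a ^ r ∈ D ∧ b ^ r ∈ D ∧ a ∉ D ∧
      ∀ k : ℕ, a ^ k * b ∉ D := by
  open scoped IsMulCommutative in
  let f : A →* A ⧸ D.subgroupOf A := QuotientGroup.mk' _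
  have hnc : ¬ IsCyclic (A ⧸ D.subgroupOf A) := by
    rintro ⟨q, hq⟩
    obtain ⟨a, rfl⟩ := QuotientGroup.mk_surjective q
    refine h a a.2 (le_antisymm (sup_le inf_le_left (zpowers_le.mpr a.2)) fun x hx => ?_)
    obtain ⟨i, hi⟩ := mem_zpowers_iff.mp (hq (f ⟨x, hx⟩))
    have hmem : (a ^ i)⁻¹ * (⟨x, hx⟩ : A) ∈ D.subgroupOf A := by
      rw [← QuotientGroup.eq_one_iff, QuotientGroup.mk_mul, QuotientGroup.mk_inv,
        QuotientGroup.mk_zpow, hi]
      exact inv_mul_cancel _
    have := mul_mem_sup (S := zpowers (a : G)) (T := A ⊓ D) (zpow_mem (mem_zpowers (a : G)) i)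
      (⟨((a ^ i)⁻¹ * (⟨x, hx⟩ : A) : A).2, hmem⟩ : _ ∈ A ⊓ D)
    simp only [Subgroup.coe_mul, Subgroup.coe_inv, SubgroupClass.coe_zpow,
      mul_inv_cancel_left] at this
    rwa [sup_comm] at this
  obtain ⟨r, hr, qa, qb, har, hbr, hane, hb⟩ := exists_two_generated_of_not_isCyclic hnc
  obtain ⟨a, rfl⟩ := QuotientGroup.mk_surjective qa
  obtain ⟨b, rfl⟩ := QuotientGroup.mk_surjective qb
  refine ⟨r, hr, ?_, a, a.2, b, b.2, ?_, ?_, fun ha => hane ((QuotientGroup.eq_one_iff a).mpr ha),
    fun k hk => hb ?_⟩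
  · have h1 := orderOf_eq_prime (hp := ⟨hr⟩) har hane
    exact (h1.symm.dvd.trans (_root_.orderOf_dvd_natCard _)).trans (Subgroup.card_quotient_dvd_card _)
  · exact (QuotientGroup.eq_one_iff (N := D.subgroupOf A) (a ^ r)).mp (by rw [QuotientGroup.mk_pow]; exact har)
  · exact (QuotientGroup.eq_one_iff (N := D.subgroupOf A) (b ^ r)).mp (by rw [QuotientGroup.mk_pow]; exact hbr)
  · have h1 : (↑(a ^ k * b) : A ⧸ D.subgroupOf A) = 1 := (QuotientGroup.eq_one_iff _).mpr hk
    rw [QuotientGroup.mk_mul, QuotientGroup.mk_pow] at h1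
    rw [eq_inv_of_mul_eq_one_right h1]
    exact inv_mem (pow_mem (mem_zpowers _) k)

/-- If `A` is abelian noncyclic and acts coprimely, the centralisers of the nonidentity elements
generate. -/
theorem iSup_centralizer_eq {A K : Subgroup G} [IsMulCommutative A] (hA : ¬ IsCyclic A)
    (hAK : A ≤ normalizer (K : Set G)) (hcop : (Nat.card A).Coprime (Nat.card K)) :
    (⨆ a ∈ {a : G | a ∈ A ∧ a ≠ 1}, K ⊓ centralizer {a}) = K := by
  refine le_antisymm (iSup₂_le fun a _ => inf_le_left) ?_
  obtain ⟨r, hr, hrA, a, ha, b, hb, har, hbr, hane, hbne⟩ := exists_pair (A := A) (D := ⊥)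
    (fun a ha h => hA (by
      rw [inf_bot_eq, bot_sup_eq] at h
      rw [← h]
      infer_instance))
  rw [Subgroup.mem_bot] at har hbr hane
  simp only [Subgroup.mem_bot] at hbne
  refine le_of_centralizers_le
    (congrArg Subtype.val (IsMulCommutative.is_comm.comm (⟨a, ha⟩ : A) ⟨b, hb⟩))
    (hAK ha) (hAK hb) hr (by rw [har]; exact one_mem _) (by rw [hbr]; exact one_mem _)
    (hcop.coprime_dvd_left hrA) (hcop.coprime_dvd_left (card_dvd_of_le (by
      rw [closure_le]; rintro x (rfl | rfl) <;> assumption))) ?_ (fun k => ?_)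
  · exact le_iSup₂_of_le a ⟨ha, hane⟩ le_rfl
  · exact le_iSup₂_of_le (a ^ k * b) ⟨A.mul_mem (pow_mem ha k) hb, hbne k⟩ le_rfl

/-- The subgroups with cyclic quotient in `A`. -/
def Cocyclic (A : Subgroup G) : Set (Subgroup G) :=
  {B : Subgroup G | B ≤ A ∧ ∃ a ∈ A, B ⊔ zpowers a = A}

/-- `K` is generated by the fixed points of the cocyclic subgroups of an abelian `A`. -/
theorem iSup_cocyclic_centralizer_eq {A K : Subgroup G} [IsMulCommutative A]
    (hAK : A ≤ normalizer (K : Set G)) (hcop : (Nat.card A).Coprime (Nat.card K)) :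
    (⨆ B ∈ Cocyclic A, K ⊓ centralizer (B : Set G)) = K := by
  induction K using WellFoundedLT.induction with
  | _ K ih =>
  refine le_antisymm (iSup₂_le fun B _ => inf_le_left) ?_
  set D : Subgroup G := centralizer (K : Set G) with hD
  by_cases hcy : ∃ a ∈ A, (A ⊓ D) ⊔ zpowers a = A
  · refine le_iSup₂_of_le (A ⊓ D) ⟨inf_le_left, hcy⟩ (le_inf le_rfl ?_)
    exact Subgroup.le_centralizer_iff.mp inf_le_right
  push Not at hcy
  obtain ⟨r, hr, hrA, a, ha, b, hb, har, hbr, hane, hbne⟩ := exists_pair hcy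
  have sub : ∀ c ∈ A, c ∉ D → K ⊓ centralizer {c} ≤
      ⨆ B ∈ Cocyclic A, K ⊓ centralizer (B : Set G) := by
    intro c hcA hcD
    have hlt : K ⊓ centralizer {c} < K := by
      refine lt_of_le_of_ne inf_le_left fun h => hcD ?_
      rw [inf_eq_left] at h
      exact fun k hk => (mem_centralizer_iff.mp (h hk) c rfl).symm
    have hAc : A ≤ normalizer ((K ⊓ centralizer {c} : Subgroup G) : Set G) := by
      refine le_normalizer_inf hAK (le_normalizer_centralizer ?_)
      intro x hx
      rw [Subgroup.mem_set_normalizer_iff]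
      intro y
      have hxc : x * c = c * x :=
        congrArg Subtype.val (IsMulCommutative.is_comm.comm (⟨x, hx⟩ : A) ⟨c, hcA⟩)
      constructor
      · rintro rfl
        exact Set.mem_singleton_iff.mpr (by rw [hxc, mul_inv_cancel_right])
      · intro hy
        rw [Set.mem_singleton_iff] at hy ⊢
        have hy' : x * y * x⁻¹ = x * c * x⁻¹ := by rw [hy, hxc, mul_inv_cancel_right]
        exact mul_left_cancel (mul_right_cancel hy')
    have h := ih _ hlt hAc (hcop.coprime_dvd_right (card_dvd_of_le hlt.le))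
    calc K ⊓ centralizer {c}
        = ⨆ B ∈ Cocyclic A, K ⊓ centralizer {c} ⊓ centralizer (B : Set G) := h.symm
      _ ≤ _ := iSup₂_mono fun B _ => inf_le_inf_right _ inf_le_left
  refine le_of_centralizers_le
    (congrArg Subtype.val (IsMulCommutative.is_comm.comm (⟨a, ha⟩ : A) ⟨b, hb⟩))
    (hAK ha) (hAK hb) hr har hbr
    (hcop.coprime_dvd_left hrA) (hcop.coprime_dvd_left (card_dvd_of_le (by
      rw [closure_le]; rintro x (rfl | rfl) <;> assumption))) (sub a ha hane)
    (fun k => sub _ (A.mul_mem (pow_mem ha k) hb) (hbne k))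

/-- `[K, A]` is generated by the `[C_K(B), A]` for cocyclic `B`. -/
theorem iSup_cocyclic_commutator_eq {A K : Subgroup G} [IsMulCommutative A]
    (hAK : A ≤ normalizer (K : Set G)) (hcop : (Nat.card A).Coprime (Nat.card K)) :
    (⨆ B ∈ Cocyclic A, ⁅K ⊓ centralizer (B : Set G), A⁆) = ⁅K, A⁆ := by
  have hA : Group.IsSolvable A :=
    Group.isSolvable_of_comm fun x y => IsMulCommutative.is_comm.comm x y
  refine le_antisymm (iSup₂_le fun B _ => commutator_mono inf_le_left le_rfl) ?_
  set M : Subgroup G := ⁅K, A⁆ with hM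
  set R : Subgroup G := ⨆ B ∈ Cocyclic A, ⁅K ⊓ centralizer (B : Set G), A⁆ with hR
  have hMK : M ≤ K := commutator_le_of_le_normalizer hAK
  have hMA : A ≤ normalizer (M : Set G) := normalizer_commutator_ge_right K A
  have hcopM := hcop.coprime_dvd_right (card_dvd_of_le hMK)
  have hRA : A ≤ normalizer (R : Set G) := fun x hx =>
    iInf_normalizer_le_normalizer_iSup _ (mem_iInf.mpr fun B =>
      iInf_normalizer_le_normalizer_iSup _ (mem_iInf.mpr fun _ =>
        normalizer_commutator_ge_right _ A hx))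
  have hRC : K ⊓ centralizer (A : Set G) ≤ normalizer (R : Set G) := fun x hx =>
    iInf_normalizer_le_normalizer_iSup _ (mem_iInf.mpr fun B =>
      iInf_normalizer_le_normalizer_iSup _ (mem_iInf.mpr fun hB =>
        normalizer_commutator_ge_left _ A ⟨hx.1, centralizer_le hB.1 hx.2⟩))
  have hMR : M ≤ R ⊔ (K ⊓ centralizer (A : Set G)) := by
    conv_lhs => rw [← iSup_cocyclic_centralizer_eq hMA hcopM]
    refine iSup₂_le fun B hB => ?_
    have hAB : A ≤ normalizer ((M ⊓ centralizer (B : Set G) : Subgroup G) : Set G) := by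
      refine le_normalizer_inf hMA (le_normalizer_centralizer fun x hx => ?_)
      apply centralizer_le_normalizer
      intro y hy
      exact congrArg Subtype.val (IsMulCommutative.is_comm.comm (⟨y, hB.1 hy⟩ : A) ⟨x, hx⟩)
    rw [← commutator_sup_centralizer hAB (hcopM.coprime_dvd_right (card_dvd_of_le inf_le_left))
      (Or.inl hA)]
    exact sup_le_sup (le_iSup₂_of_le B hB (commutator_mono (inf_le_inf_right _ hMK) le_rfl))
      (inf_le_inf_right _ (inf_le_left.trans hMK))
  conv_lhs => rw [hM, ← commutator_commutator_eq hAK hcop (Or.inl hA), ← hM]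
  rw [commutator_le]
  intro m hm x hx
  obtain ⟨w, hw, c, hc, rfl⟩ := (mem_sup_of_le_normalizer hRC).mp (hMR hm)
  have hcx : c * x = x * c := (mem_centralizer_iff.mp hc.2 x hx).symm
  have e : ⁅w * c, x⁆ = ⁅w, x⁆ := by
    rw [commutatorElement_def, commutatorElement_def, mul_inv_rev]
    calc w * c * x * (c⁻¹ * w⁻¹) * x⁻¹ = w * (c * x) * c⁻¹ * w⁻¹ * x⁻¹ := by simp [mul_assoc]
      _ = w * (x * c) * c⁻¹ * w⁻¹ * x⁻¹ := by rw [hcx]
      _ = w * x * w⁻¹ * x⁻¹ := by simp [mul_assoc]
  rw [e]
  exact le_normalizer_iff_commutator_le_left.mp hRA (commutator_mem_commutator hw hx)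

end Cfsg.Agent.Coprime
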