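import Mathlib

/-!
Elementary lemmas on subgroups used by the coprime action library.
-/

set_option autoImplicit false

open Subgroup
open scoped Pointwise

namespace Cfsg.Agent.Coprime

universe u

variable {G : Type u} [Group G]

/-- Membership in a conjugate subgroup. -/
theorem mem_conj_smul {g x : G} {H : Subgroup G} :
    x ∈ MulAut.conj g • H ↔ g⁻¹ * x * g ∈ H := by
  rw [Subgroup.mem_pointwise_smul_iff_inv_smul_mem]
  simp [MulAut.smul_def, ← map_inv]

theorem conj_mem_conj_smul {g x : G} {H : Subgroup G} (hx : x ∈ H) :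
    g * x * g⁻¹ ∈ MulAut.conj g • H := by
  rw [mem_conj_smul]
  simpa [mul_assoc] using hx

theorem conj_smul_eq_map (g : G) (H : Subgroup G) :
    MulAut.conj g • H = H.map (MulAut.conj g).toMonoidHom := by
  ext x
  rw [mem_conj_smul, Subgroup.mem_map]
  constructor
  · intro h
    exact ⟨_, h, by simp [mul_assoc]⟩
  · rintro ⟨y, hy, rfl⟩
    simpa [mul_assoc] using hy

theorem conj_smul_eq_self_of_mem_normalizer {g : G} {H : Subgroup G}
    (hg : g ∈ normalizer (H : Set G)) : MulAut.conj g • H = H := by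
  ext x
  rw [mem_conj_smul]
  exact (Subgroup.mem_normalizer_iff''.mp hg x).symm

theorem mem_normalizer_of_conj_smul_eq {g : G} {H : Subgroup G}
    (h : MulAut.conj g • H = H) : g ∈ normalizer (H : Set G) := by
  rw [Subgroup.mem_normalizer_iff'']
  intro x
  rw [← mem_conj_smul, h]

theorem conj_smul_le_self {g : G} {H K : Subgroup G} (hg : g ∈ normalizer (K : Set G))
    (hH : H ≤ K) : MulAut.conj g • H ≤ K := by
  calc MulAut.conj g • H ≤ MulAut.conj g • K :=
        Subgroup.pointwise_smul_le_pointwise_smul_iff.mpr hH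
    _ = K := conj_smul_eq_self_of_mem_normalizer hg

theorem card_conj_smul (g : G) (H : Subgroup G) :
    Nat.card (MulAut.conj g • H : Subgroup G) = Nat.card H :=
  (Nat.card_congr (Subgroup.equivSMul (MulAut.conj g) H).toEquiv).symm

theorem conj_mul_smul (g h : G) (H : Subgroup G) :
    MulAut.conj (g * h) • H = MulAut.conj g • MulAut.conj h • H := by
  rw [map_mul, mul_smul]

theorem inf_eq_bot_of_coprime {H K : Subgroup G} (h : (Nat.card H).Coprime (Nat.card K)) :
    H ⊓ K = ⊥ :=
  disjoint_iff.mp (Subgroup.disjoint_of_coprime_natCard h)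

/-- Elements of `N ⊔ A` for `A` normalising `N`. -/
theorem mem_sup_of_le_normalizer {N A : Subgroup G} (hA : A ≤ normalizer (N : Set G)) {x : G} :
    x ∈ N ⊔ A ↔ ∃ n ∈ N, ∃ a ∈ A, n * a = x := by
  rw [← SetLike.mem_coe, Subgroup.coe_mul_of_right_le_normalizer_left N A hA]
  simp [Set.mem_mul]

theorem card_sup_eq_mul {N A : Subgroup G} (hA : A ≤ normalizer (N : Set G)) (hd : N ⊓ A = ⊥) :
    Nat.card (N ⊔ A : Subgroup G) = Nat.card N * Nat.card A := by
  rw [← Nat.card_prod]
  refine (Nat.card_congr (Equiv.ofBijective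
    (fun p : N × A => (⟨(p.1 : G) * p.2,
      mul_mem_sup p.1.2 p.2.2⟩ : (N ⊔ A : Subgroup G))) ⟨?_, ?_⟩)).symm
  · intro p q h
    exact Subgroup.mul_injective_of_disjoint (disjoint_iff.mpr hd) (congrArg Subtype.val h)
  · rintro ⟨x, hx⟩
    obtain ⟨n, hn, a, ha, rfl⟩ := (mem_sup_of_le_normalizer hA).mp hx
    exact ⟨(⟨n, hn⟩, ⟨a, ha⟩), rfl⟩

/-- Dedekind's modular law for a subgroup `A` of `S` normalising `K`. -/
theorem dedekind {K A S : Subgroup G} (hA : A ≤ normalizer (K : Set G)) (hAS : A ≤ S) :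
    (K ⊔ A) ⊓ S = (K ⊓ S) ⊔ A := by
  refine le_antisymm ?_ (le_inf (sup_le (inf_le_left.trans le_sup_left) le_sup_right)
    (sup_le inf_le_right hAS))
  rintro x ⟨hx, hxS⟩
  obtain ⟨k, hk, a, ha, rfl⟩ := (mem_sup_of_le_normalizer hA).mp hx
  exact mul_mem_sup ⟨hk, (S.mul_mem_cancel_right (hAS ha)).mp hxS⟩ ha

theorem le_normalizer_inf {K S A : Subgroup G} (h1 : A ≤ normalizer (K : Set G))
    (h2 : A ≤ normalizer (S : Set G)) : A ≤ normalizer ((K ⊓ S : Subgroup G) : Set G) :=
  fun _ ha => Subgroup.inf_normalizer_le_normalizer_inf ⟨h1 ha, h2 ha⟩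

theorem le_normalizer_inf_of_le {K S A : Subgroup G} (h1 : A ≤ normalizer (K : Set G))
    (h2 : A ≤ S) : A ≤ normalizer ((K ⊓ S : Subgroup G) : Set G) :=
  le_normalizer_inf h1 (h2.trans Subgroup.le_normalizer)

theorem le_normalizer_sup {H K A : Subgroup G} (h1 : A ≤ normalizer (H : Set G))
    (h2 : A ≤ normalizer (K : Set G)) : A ≤ normalizer ((H ⊔ K : Subgroup G) : Set G) :=
  fun _ ha => Subgroup.normalizer_inf_normalizer_le_normalizer_sup H K ⟨h1 ha, h2 ha⟩

theorem le_normalizer_centralizer {A : Subgroup G} {S : Set G} (h : A ≤ normalizer S) :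
    A ≤ normalizer (Subgroup.centralizer S : Set G) := by
  intro a ha
  have h' := Subgroup.mem_set_normalizer_iff.mp (h ha)
  rw [Subgroup.mem_normalizer_iff]
  intro x
  simp only [Subgroup.mem_centralizer_iff]
  constructor
  · intro hx s hs
    have hs' : a⁻¹ * s * a ∈ S := (h' _).mpr (by simpa [mul_assoc] using hs)
    have := congrArg (fun t => a * t * a⁻¹) (hx _ hs')
    simpa [mul_assoc] using this
  · intro hx s hs
    have := congrArg (fun t => a⁻¹ * t * a) (hx _ ((h' s).mp hs))
    simpa [mul_assoc] using this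

theorem isSolvable_of_le {H K : Subgroup G} (h : H ≤ K) (hK : Group.IsSolvable K) :
    Group.IsSolvable H :=
  Group.isSolvable_of_isSolvable_injective (Subgroup.inclusion_injective h)

theorem isSolvable_map {G' : Type*} [Group G'] (f : G →* G') {H : Subgroup G}
    (hH : Group.IsSolvable H) : Group.IsSolvable (H.map f) :=
  Group.isSolvable_of_surjective (f.subgroupMap_surjective H)

theorem isSolvable_subgroupOf {H : Subgroup G} (L : Subgroup G) (hH : Group.IsSolvable H) :
    Group.IsSolvable (H.subgroupOf L) := by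
  refine Group.isSolvable_of_isSolvable_injective
    (f := (L.subtype.comp (H.subgroupOf L).subtype).codRestrict H (fun x => x.2)) ?_
  intro x y h
  exact Subtype.ext (Subtype.ext (congrArg (fun z : H => (z : G)) h))

theorem isSolvable_of_subgroupOf {H L : Subgroup G} (h : H ≤ L)
    (hH : Group.IsSolvable (H.subgroupOf L)) : Group.IsSolvable H :=
  Group.isSolvable_of_surjective (f := (Subgroup.subgroupOfEquivOfLe h).toMonoidHom)
    (Subgroup.subgroupOfEquivOfLe h).surjective

theorem card_subgroupOf {H L : Subgroup G} (h : H ≤ L) :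
    Nat.card (H.subgroupOf L) = Nat.card H :=
  Nat.card_congr (Subgroup.subgroupOfEquivOfLe h).toEquiv

theorem conj_smul_map_subtype {L : Subgroup G} (l : L) (S : Subgroup L) :
    (MulAut.conj l • S).map L.subtype = MulAut.conj (l : G) • S.map L.subtype := by
  rw [conj_smul_eq_map, conj_smul_eq_map, Subgroup.map_map, Subgroup.map_map]
  congr 1

theorem map_conj_smul {G' : Type*} [Group G'] (f : G →* G') (g : G) (H : Subgroup G) :
    (MulAut.conj g • H).map f = MulAut.conj (f g) • H.map f := by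
  rw [conj_smul_eq_map, conj_smul_eq_map, Subgroup.map_map, Subgroup.map_map]
  congr 1
  ext x
  simp

end Cfsg.Agent.Coprime
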