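import Cfsg.Agent.Coprime.Tools

/-!
The conjugacy half of the Schur–Zassenhaus theorem.

`exists_conj_of_isComplement'` : two complements of a normal Hall subgroup `N` are conjugate by an
element of `N` if `N` or one of the complements is solvable.
`exists_conj_of_sup_eq` : the same inside a subgroup.
-/

set_option autoImplicit false

open Subgroup
open scoped Pointwise

namespace Cfsg.Agent.Coprime

universe u

section Abelian

variable {G : Type u} [Group G] [Finite G]

private theorem conj_abelian {N : Subgroup G} [N.Normal] [IsMulCommutative N]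
    (hN : (Nat.card N).Coprime N.index) {H K : Subgroup G} (hH : IsComplement' N H)
    (hK : IsComplement' N K) : ∃ n ∈ N, MulAut.conj n • H = K := by
  let T : (S : Subgroup G) → IsComplement' N S → N.QuotientDiff :=
    fun S hS => Quotient.mk'' ⟨(S : Set G), hS.symm⟩
  have key : ∀ (S : Subgroup G) (hS : IsComplement' N S),
      MulAction.stabilizer G (T S hS) = S := by
    intro S hS
    have hle : S ≤ MulAction.stabilizer G (T S hS) := by
      intro s hs
      rw [MulAction.mem_stabilizer_iff]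
      refine congrArg Quotient.mk'' (Subtype.ext ?_)
      change MulOpposite.op s⁻¹ • (S : Set G) = (S : Set G)
      ext x
      rw [Set.mem_smul_set_iff_inv_smul_mem]
      simp [S.mul_mem_cancel_right hs]
    refine (Subgroup.eq_of_le_of_card_ge hle ?_).symm
    rw [← (isComplement'_stabilizer_of_coprime (α := T S hS) hN).symm.index_eq_card,
      ← hS.symm.index_eq_card]
  obtain ⟨n, hn⟩ := Subgroup.exists_smul_eq hN (T H hH) (T K hK)
  refine ⟨n, n.2, ?_⟩
  have hn' : (n : G) • T H hH = T K hK := hn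
  rw [← key H hH, ← key K hK, ← hn', conj_smul_eq_map, MulAction.stabilizer_smul_eq_stabilizer_map_conj]

end Abelian

section Helpers

variable {G : Type u} [Group G] [Finite G]

theorem isComplement'_of_inf_sup {N H : Subgroup G} [N.Normal] (h1 : N ⊓ H = ⊥)
    (h2 : N ⊔ H = ⊤) : IsComplement' N H :=
  isComplement'_of_disjoint_and_mul_eq_univ (disjoint_iff.mpr h1)
    (by rw [← Subgroup.normal_mul, h2, Subgroup.coe_top])

theorem card_eq_index_of_isComplement' {N H : Subgroup G} (h : IsComplement' N H) :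
    Nat.card H = N.index :=
  (IsComplement'.index_eq_card h.symm).symm

/-- Passing from a statement inside a subgroup to a statement in the subgroup as a group. -/
theorem conj_in_subgroup {M H K : Subgroup G} (hMH : H ≤ normalizer (M : Set G))
    (hH : M ⊓ H = ⊥) (hK : M ⊓ K = ⊥) (hs : M ⊔ H = M ⊔ K)
    (hcop : (Nat.card M).Coprime (Nat.card H))
    (habs : ∀ [(M.subgroupOf (M ⊔ H)).Normal],
      (Nat.card (M.subgroupOf (M ⊔ H))).Coprime (M.subgroupOf (M ⊔ H)).index →
      IsComplement' (M.subgroupOf (M ⊔ H)) (H.subgroupOf (M ⊔ H)) →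
      IsComplement' (M.subgroupOf (M ⊔ H)) (K.subgroupOf (M ⊔ H)) →
      ∃ n ∈ M.subgroupOf (M ⊔ H),
        MulAut.conj n • H.subgroupOf (M ⊔ H) = K.subgroupOf (M ⊔ H)) :
    ∃ m ∈ M, MulAut.conj m • H = K := by
  have hKL : K ≤ M ⊔ H := hs ▸ le_sup_right
  have hn : (M.subgroupOf (M ⊔ H)).Normal :=
    normal_subgroupOf_of_le_normalizer (sup_le Subgroup.le_normalizer hMH)
  have comp : ∀ S : Subgroup G, S ≤ M ⊔ H → M ⊔ S = M ⊔ H → M ⊓ S = ⊥ →
      IsComplement' (M.subgroupOf (M ⊔ H)) (S.subgroupOf (M ⊔ H)) := by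
    intro S hS h1 h2
    refine isComplement'_of_inf_sup ?_ ?_
    · have : M.subgroupOf (M ⊔ H) ⊓ S.subgroupOf (M ⊔ H) = (M ⊓ S).subgroupOf (M ⊔ H) :=
        (Subgroup.comap_inf M S (M ⊔ H).subtype).symm
      rw [this, h2]
      exact Subgroup.bot_subgroupOf _
    · rw [← Subgroup.subgroupOf_sup le_sup_left hS, h1, Subgroup.subgroupOf_self]
  have cH := comp H le_sup_right rfl hH
  obtain ⟨n, hnM, hc⟩ := habs (by
      rw [← card_eq_index_of_isComplement' cH, card_subgroupOf le_sup_left,
        card_subgroupOf le_sup_right]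
      exact hcop) cH (comp K hKL hs.symm hK)
  refine ⟨n, hnM, ?_⟩
  have := congrArg (Subgroup.map (M ⊔ H).subtype) hc
  rwa [conj_smul_map_subtype, Subgroup.map_subgroupOf_eq_of_le le_sup_right,
    Subgroup.map_subgroupOf_eq_of_le hKL] at this

theorem eq_of_le_of_sup_eq {H K M : Subgroup G} [M.Normal] (hH : M ≤ H) (hK : M ≤ K)
    (h : H ⊔ M = K ⊔ M) : H = K := by
  rwa [sup_eq_left.mpr hH, sup_eq_left.mpr hK] at h

theorem exists_minimal_normal_abelian (N : Subgroup G) [N.Normal] (hne : N ≠ ⊥)
    (hsolv : Group.IsSolvable N) :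
    ∃ M : Subgroup G, M.Normal ∧ IsMulCommutative M ∧ M ≤ N ∧ M ≠ ⊥ := by
  obtain ⟨M, ⟨hMn, hMN, hMne⟩, hmin⟩ := wellFounded_lt.has_min
    {M : Subgroup G | M.Normal ∧ M ≤ N ∧ M ≠ ⊥} ⟨N, inferInstance, le_rfl, hne⟩
  refine ⟨M, hMn, ?_, hMN, hMne⟩
  have := hMn
  have : Group.IsSolvable M := isSolvable_of_le hMN hsolv
  have : Nontrivial M := (Subgroup.nontrivial_iff_ne_bot M).mpr hMne
  have hlt : ⁅M, M⁆ < M := by
    have h : commutator M < ⊤ := Group.IsSolvable.commutator_lt_top_of_nontrivial M
    have := (Subgroup.map_lt_map_iff_of_injective M.subtype_injective).mpr h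
    rwa [Subgroup.map_subtype_commutator, ← MonoidHom.range_eq_map, Subgroup.range_subtype] at this
  have hbot : ⁅M, M⁆ = ⊥ := by
    by_contra hb
    exact hmin ⁅M, M⁆ ⟨inferInstance, hlt.le.trans hMN, hb⟩ hlt
  refine ⟨⟨fun a b => Subtype.ext ?_⟩⟩
  exact (Subgroup.mem_centralizer_iff.mp
    (Subgroup.commutator_eq_bot_iff_le_centralizer.mp hbot b.2) a a.2)

theorem exists_normal_isPGroup [Nontrivial G] [hs : Group.IsSolvable G] :
    ∃ p : ℕ, p.Prime ∧ ∃ P : Subgroup G, P.Normal ∧ IsPGroup p P ∧ P ≠ ⊥ := by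
  obtain ⟨M, hMn, hMc, -, hMne⟩ := exists_minimal_normal_abelian (⊤ : Subgroup G)
    top_ne_bot inferInstance
  have := hMn
  have := hMc
  obtain ⟨p, hp, hdvd⟩ := Nat.exists_prime_and_dvd
    (show Nat.card M ≠ 1 from fun h => hMne (Subgroup.card_eq_one.mp h))
  have := Fact.mk hp
  obtain ⟨P⟩ : Nonempty (Sylow p M) := inferInstance
  have : (P : Subgroup M).Normal := Subgroup.normal_of_comm _
  have := P.characteristic_of_normal inferInstance
  refine ⟨p, hp, (P : Subgroup M).map M.subtype, inferInstance, P.2.map _, ?_⟩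
  rw [Ne, Subgroup.map_eq_bot_iff_of_injective _ M.subtype_injective]
  exact P.ne_bot_of_dvd_card hdvd

end Helpers

/-- Induction step: quotient by a nontrivial normal subgroup inside `N` or inside both
complements. -/
private theorem conj_step {G : Type u} [Group G] [Finite G] (M : Subgroup G) [M.Normal]
    {N H K : Subgroup G} [N.Normal] (hN : (Nat.card N).Coprime N.index)
    (hsolv : Group.IsSolvable N ∨ Group.IsSolvable H)
    (hH : IsComplement' N H) (hK : IsComplement' N K)
    (hM : M ≤ N ∨ (M ≤ H ∧ M ≤ K))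
    (IH : ∀ (N' H' K' : Subgroup (G ⧸ M)) [N'.Normal], (Nat.card N').Coprime N'.index →
      (Group.IsSolvable N' ∨ Group.IsSolvable H') → IsComplement' N' H' → IsComplement' N' K' →
      ∃ n ∈ N', MulAut.conj n • H' = K') :
    ∃ n ∈ N, MulAut.conj n • H ⊔ M = K ⊔ M := by
  have hsurj : Function.Surjective (QuotientGroup.mk' M) := QuotientGroup.mk'_surjective M
  have : (N.map (QuotientGroup.mk' M)).Normal := Subgroup.Normal.map inferInstance _ hsurj
  have comp : ∀ S : Subgroup G, IsComplement' N S → (M ≤ N ∨ M ≤ S) →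
      IsComplement' (N.map (QuotientGroup.mk' M)) (S.map (QuotientGroup.mk' M)) := by
    intro S hS hMS
    refine isComplement'_of_inf_sup ?_ ?_
    · rw [eq_bot_iff]
      rintro x ⟨⟨n, hn, rfl⟩, ⟨s, hs, hsn⟩⟩
      have hmem : n⁻¹ * s ∈ M := QuotientGroup.eq.mp hsn.symm
      rw [Subgroup.mem_bot]
      rcases hMS with h | h
      · have hs1 : s = 1 :=
          Subgroup.disjoint_def.mp hS.disjoint ((N.mul_mem_cancel_left (N.inv_mem hn)).mp (h hmem)) hs
        rw [← hsn, hs1, map_one]
      · have hn1 : n = 1 := Subgroup.disjoint_def.mp hS.disjoint hn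
          (inv_mem_iff.mp ((S.mul_mem_cancel_right hs).mp (h hmem)))
        rw [hn1, map_one]
    · rw [← Subgroup.map_sup, hS.sup_eq_top, Subgroup.map_top_of_surjective _ hsurj]
  have hcop : (Nat.card (N.map (QuotientGroup.mk' M))).Coprime
      (N.map (QuotientGroup.mk' M)).index :=
    Nat.Coprime.coprime_dvd_left (Subgroup.card_map_dvd _ _)
      (Nat.Coprime.coprime_dvd_right (Subgroup.index_map_dvd _ hsurj) hN)
  obtain ⟨n', hn', hc⟩ := IH _ _ _ hcop
    (hsolv.imp (fun h => isSolvable_map _ h) (fun h => isSolvable_map _ h))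
    (comp H hH (hM.imp id And.left)) (comp K hK (hM.imp id And.right))
  obtain ⟨n, hn, rfl⟩ := hn'
  refine ⟨n, hn, ?_⟩
  rw [← map_conj_smul] at hc
  have := congrArg (Subgroup.comap (QuotientGroup.mk' M)) hc
  rwa [Subgroup.comap_map_eq, Subgroup.comap_map_eq, QuotientGroup.ker_mk'] at this

private theorem conj_aux (n : ℕ) : ∀ (G : Type u) [Group G] [Finite G], Nat.card G = n →
    ∀ (N H K : Subgroup G) [N.Normal], (Nat.card N).Coprime N.index →
      (Group.IsSolvable N ∨ Group.IsSolvable H) → IsComplement' N H → IsComplement' N K →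
      ∃ n ∈ N, MulAut.conj n • H = K := by
  induction n using Nat.strong_induction_on with
  | _ n IH =>
  intro G _ _ hcard N H K _ hN hsolv hH hK
  subst hcard
  have IHq : ∀ M : Subgroup G, [M.Normal] → M ≠ ⊥ → ∀ (N' H' K' : Subgroup (G ⧸ M)) [N'.Normal],
      (Nat.card N').Coprime N'.index →
      (Group.IsSolvable N' ∨ Group.IsSolvable H') → IsComplement' N' H' → IsComplement' N' K' →
      ∃ n ∈ N', MulAut.conj n • H' = K' := by
    intro M _ hM
    refine IH _ ?_ (G ⧸ M) rfl
    rw [← Subgroup.index_eq_card, ← M.index_mul_card]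
    exact lt_mul_of_one_lt_right (Nat.pos_of_ne_zero Subgroup.index_ne_zero_of_finite)
      (M.one_lt_card_iff_ne_bot.mpr hM)
  have hcardH : Nat.card H = N.index := card_eq_index_of_isComplement' hH
  have hcardK : Nat.card K = N.index := card_eq_index_of_isComplement' hK
  by_cases hNbot : N = ⊥
  · refine ⟨1, N.one_mem, ?_⟩
    rw [map_one, one_smul, ← bot_sup_eq H, ← bot_sup_eq K, ← hNbot, hH.sup_eq_top, hK.sup_eq_top]
  rcases hsolv with hsolv | hsolv
  · -- solvable normal subgroup
    obtain ⟨M, hMn, hMc, hMN, hMne⟩ := exists_minimal_normal_abelian N hNbot hsolv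
    have := hMn
    have := hMc
    obtain ⟨g, hgN, hg⟩ := conj_step M hN (Or.inl hsolv) hH hK (Or.inl hMN) (IHq M hMne)
    have hcop : (Nat.card M).Coprime (Nat.card (MulAut.conj g • H : Subgroup G)) := by
      rw [card_conj_smul, hcardH]
      exact hN.coprime_dvd_left (Subgroup.card_dvd_of_le hMN)
    obtain ⟨m, hm, hmg⟩ := conj_in_subgroup (M := M) (H := MulAut.conj g • H) (K := K)
      le_normalizer_of_normal (inf_eq_bot_of_coprime hcop)
      (inf_eq_bot_of_coprime (by
        rw [hcardK]; exact hN.coprime_dvd_left (Subgroup.card_dvd_of_le hMN)))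
      (by rw [sup_comm, hg, sup_comm]) hcop
      (fun h c1 c2 => conj_abelian h c1 c2)
    exact ⟨m * g, N.mul_mem (hMN hm) hgN, by rw [conj_mul_smul, hmg]⟩
  · -- solvable complement
    by_cases hHbot : H = ⊥
    · refine ⟨1, N.one_mem, ?_⟩
      rw [map_one, one_smul, hHbot]
      symm
      rw [← Subgroup.card_eq_one, hcardK, ← hcardH, hHbot, Subgroup.card_bot]
    have : Nontrivial H := (Subgroup.nontrivial_iff_ne_bot H).mpr hHbot
    have := hsolv
    obtain ⟨p, hp, P₀, hP₀n, hP₀p, hP₀ne⟩ := exists_normal_isPGroup (G := H)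
    have := Fact.mk hp
    -- `Q` is the image of `P₀` in `G`, and `L = N Q`
    set Q : Subgroup G := P₀.map H.subtype with hQdef
    have hQH : Q ≤ H := Subgroup.map_subtype_le P₀
    have hQne : Q ≠ ⊥ := fun h => hP₀ne
      ((Subgroup.map_eq_bot_iff_of_injective _ H.subtype_injective).mp h)
    have hQp : IsPGroup p Q := hP₀p.map _
    have hHQ : H ≤ normalizer (Q : Set G) := by
      have := hP₀n
      refine le_trans ?_ (Subgroup.le_normalizer_map H.subtype (H := P₀))
      rw [Subgroup.normalizer_eq_top, ← MonoidHom.range_eq_map, Subgroup.range_subtype]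
    set L : Subgroup G := N ⊔ Q with hLdef
    have hLn : L.Normal := by
      rw [← Subgroup.normalizer_eq_top_iff, eq_top_iff, ← hH.sup_eq_top]
      exact sup_le (le_sup_left.trans Subgroup.le_normalizer)
        (le_normalizer_sup Subgroup.le_normalizer_of_normal hHQ)
    have hNQ : N ⊓ Q = ⊥ := by
      rw [eq_bot_iff, ← disjoint_iff.mp hH.disjoint]
      exact inf_le_inf_left _ hQH
    have hcardL : Nat.card L = Nat.card N * Nat.card Q :=
      card_sup_eq_mul Subgroup.le_normalizer_of_normal hNQ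
    have hLK : N ⊔ (K ⊓ L) = L := by
      refine le_antisymm (sup_le le_sup_left inf_le_right) ?_
      calc L = (N ⊔ K) ⊓ L := by rw [hK.sup_eq_top, top_inf_eq]
        _ ≤ N ⊔ (K ⊓ L) := by
          rintro x ⟨hx, hxL⟩
          obtain ⟨n, hn, k, hk, rfl⟩ :=
            (mem_sup_of_le_normalizer Subgroup.le_normalizer_of_normal).mp hx
          exact mul_mem_sup hn ⟨hk, (L.mul_mem_cancel_left (le_sup_left (a := N) (b := Q) hn)).mp hxL⟩
    have hNKL : N ⊓ (K ⊓ L) = ⊥ := by
      rw [eq_bot_iff, ← disjoint_iff.mp hK.disjoint]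
      exact inf_le_inf_left _ inf_le_left
    have hcardKL : Nat.card (K ⊓ L : Subgroup G) = Nat.card Q := by
      have := card_sup_eq_mul (N := N) (A := K ⊓ L) Subgroup.le_normalizer_of_normal hNKL
      rw [hLK, hcardL] at this
      exact Nat.eq_of_mul_eq_mul_left Nat.card_pos this.symm
    obtain ⟨j, hj⟩ := IsPGroup.iff_card.mp hQp
    have hpN : ¬ p ∣ Nat.card N := by
      intro h
      have hpQ : p ∣ Nat.card Q := by
        rw [hj]
        refine dvd_pow_self p ?_
        rintro rfl
        exact hQne (Subgroup.card_eq_one.mp (by rw [hj, pow_zero]))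
      have hpH : p ∣ N.index := hcardH ▸ hpQ.trans (Subgroup.card_dvd_of_le hQH)
      exact hp.ne_one (Nat.eq_one_of_dvd_coprimes hN h hpH)
    have hKLp : IsPGroup p (K ⊓ L : Subgroup G) := IsPGroup.of_card (n := j) (by rw [hcardKL, hj])
    have syl : ∀ S : Subgroup G, S ≤ L → IsPGroup p S → Nat.card S = Nat.card Q →
        ∃ P : Sylow p L, (P : Subgroup L) = S.subgroupOf L := by
      intro S hS hSp hSc
      refine ⟨(IsPGroup.of_equiv hSp (Subgroup.subgroupOfEquivOfLe hS).symm).toSylow ?_, rfl⟩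
      have := (S.subgroupOf L).card_mul_index
      rw [card_subgroupOf hS, hSc, hcardL, mul_comm (Nat.card N)] at this
      rwa [Nat.eq_of_mul_eq_mul_left Nat.card_pos this]
    obtain ⟨P1, hP1⟩ := syl Q le_sup_right hQp rfl
    obtain ⟨P2, hP2⟩ := syl (K ⊓ L) inf_le_right hKLp hcardKL
    obtain ⟨l, hl⟩ := MulAction.exists_smul_eq L P1 P2
    have hlQ : MulAut.conj (l : G) • Q = K ⊓ L := by
      have h := congrArg (fun S : Sylow p L => ((S : Subgroup L)).map L.subtype) hl
      simp only [Sylow.coe_subgroup_smul, hP1, hP2] at h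
      rwa [conj_smul_map_subtype, Subgroup.map_subgroupOf_eq_of_le le_sup_right,
        Subgroup.map_subgroupOf_eq_of_le inf_le_right] at h
    -- write `l = n q`, so that `n` does the same
    obtain ⟨n₀, hn₀, q, hq, hnq⟩ :=
      (mem_sup_of_le_normalizer (N := N) (A := Q) Subgroup.le_normalizer_of_normal).mp l.2
    set H' : Subgroup G := MulAut.conj n₀ • H with hH'def
    set P : Subgroup G := K ⊓ L with hPdef
    have hPeq : MulAut.conj n₀ • Q = P := by
      rw [← hlQ, ← hnq, conj_mul_smul,
        conj_smul_eq_self_of_mem_normalizer (Subgroup.le_normalizer hq)]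
    have hH'P : H' ≤ normalizer (P : Set G) := by
      rw [← hPeq]
      intro x hx
      rw [hH'def, mem_conj_smul] at hx
      have hx' := conj_smul_eq_self_of_mem_normalizer (hHQ hx)
      apply mem_normalizer_of_conj_smul_eq
      rw [← conj_mul_smul, show x * n₀ = n₀ * (n₀⁻¹ * x * n₀) by simp [mul_assoc],
        conj_mul_smul, hx']
    have hKP : K ≤ normalizer (P : Set G) :=
      le_normalizer_inf Subgroup.le_normalizer Subgroup.le_normalizer_of_normal
    have hPH' : P ≤ H' := hPeq ▸ Subgroup.pointwise_smul_le_pointwise_smul_iff.mpr hQH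
    have hNH' : IsComplement' N H' := by
      refine isComplement'_of_inf_sup ?_ ?_
      · rw [← conj_smul_eq_self_of_mem_normalizer (Subgroup.le_normalizer hn₀), ← Subgroup.smul_inf,
          disjoint_iff.mp hH.disjoint, Subgroup.smul_bot]
      · rw [← conj_smul_eq_self_of_mem_normalizer (Subgroup.le_normalizer hn₀), ← Subgroup.smul_sup,
          hH.sup_eq_top]
        exact eq_top_iff.mpr fun x _ => Subgroup.mem_pointwise_smul_iff_inv_smul_mem.mpr trivial
    have hsolvH' : Group.IsSolvable H' :=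
      Group.isSolvable_of_surjective (f := (Subgroup.equivSMul (MulAut.conj n₀) H).toMonoidHom)
        (Subgroup.equivSMul (MulAut.conj n₀) H).surjective
    have hcardH' : Nat.card H' = N.index := by rw [hH'def, card_conj_smul, hcardH]
    suffices h : ∃ n ∈ N, MulAut.conj n • H' = K by
      obtain ⟨n, hn, hc⟩ := h
      exact ⟨n * n₀, N.mul_mem hn hn₀, by rw [conj_mul_smul, ← hH'def, hc]⟩
    by_cases hT : normalizer (P : Set G) = ⊤
    · have : P.Normal := Subgroup.normalizer_eq_top_iff.mp hT
      have hPne : P ≠ ⊥ := by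
        intro h
        apply hQne
        rw [← Subgroup.card_eq_one, ← hcardKL, h, Subgroup.card_bot]
      obtain ⟨n, hn, hc⟩ := conj_step P hN (Or.inr hsolvH') hNH' hK
        (Or.inr ⟨hPH', inf_le_left⟩) (IHq P hPne)
      refine ⟨n, hn, eq_of_le_of_sup_eq ?_ inf_le_left hc⟩
      calc P = MulAut.conj n • P :=
            (conj_smul_eq_self_of_mem_normalizer (by rw [hT]; trivial)).symm
        _ ≤ _ := Subgroup.pointwise_smul_le_pointwise_smul_iff.mpr hPH'
    · set T : Subgroup G := normalizer (P : Set G) with hTdef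
      have hsupH : (N ⊓ T) ⊔ H' = T := by
        rw [← dedekind Subgroup.le_normalizer_of_normal hH'P, hNH'.sup_eq_top, top_inf_eq]
      have hsupK : (N ⊓ T) ⊔ K = T := by
        rw [← dedekind Subgroup.le_normalizer_of_normal hKP, hK.sup_eq_top, top_inf_eq]
      have hlt : Nat.card ((N ⊓ T) ⊔ H' : Subgroup G) < Nat.card G := by
        rw [hsupH]
        refine lt_of_le_of_ne (Subgroup.card_le_card_group _) fun h => hT ?_
        exact Subgroup.eq_top_of_card_eq _ h
      obtain ⟨m, hm, hmH⟩ := conj_in_subgroup (M := N ⊓ T) (H := H') (K := K)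
        (le_normalizer_inf_of_le Subgroup.le_normalizer_of_normal hH'P)
        (eq_bot_iff.mpr ((inf_le_inf_right _ inf_le_left).trans (disjoint_iff.mp hNH'.disjoint).le))
        (eq_bot_iff.mpr ((inf_le_inf_right _ inf_le_left).trans (disjoint_iff.mp hK.disjoint).le))
        (hsupH.trans hsupK.symm)
        (by rw [hcardH']; exact hN.coprime_dvd_left (Subgroup.card_dvd_of_le inf_le_left))
        (fun h c1 c2 => IH _ hlt _ rfl _ _ _ h (Or.inr (isSolvable_subgroupOf _ hsolvH')) c1 c2)
      exact ⟨m, hm.1, hmH⟩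

variable {G : Type u} [Group G] [Finite G]

/-- Schur–Zassenhaus, conjugacy of complements. -/
theorem exists_conj_of_isComplement' {N : Subgroup G} [N.Normal]
    (hN : (Nat.card N).Coprime N.index) {H K : Subgroup G}
    (hsolv : Group.IsSolvable N ∨ Group.IsSolvable H) (hH : IsComplement' N H)
    (hK : IsComplement' N K) : ∃ n ∈ N, MulAut.conj n • H = K :=
  conj_aux (Nat.card G) G rfl N H K hN hsolv hH hK

/-- Schur–Zassenhaus conjugacy, relative version: `H` and `K` are complements of `N` in the same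
subgroup. -/
theorem exists_conj_of_sup_eq {N H K : Subgroup G} (hNH : H ≤ normalizer (N : Set G))
    (hH : N ⊓ H = ⊥) (hK : N ⊓ K = ⊥) (hs : N ⊔ H = N ⊔ K)
    (hcop : (Nat.card N).Coprime (Nat.card H))
    (hsolv : Group.IsSolvable N ∨ Group.IsSolvable H) :
    ∃ n ∈ N, MulAut.conj n • H = K :=
  conj_in_subgroup hNH hH hK hs hcop fun h c1 c2 => exists_conj_of_isComplement' h
    (hsolv.imp (isSolvable_subgroupOf _) (isSolvable_subgroupOf _)) c1 c2

end Cfsg.Agent.Coprime
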