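import Cfsg.Agent.Coprime.SchurZassenhaus

/-!
Coprime action of a subgroup `A` on a subgroup `K` of the same group (`A` normalises `K`).

Main results (all for a finite ambient group, coprime orders, `A` or `K` solvable):
* `exists_conj_eq`, `exists_conj_eq_within` : conjugacy of copies of `A` in `K ⊔ A`.
* `exists_fixed_point`, `exists_centralizer_smul_eq` : Glauberman's lemma.
* `exists_fixed_mem_leftCoset`, `map_inf_centralizer` : fixed points in quotients.
* `exists_invariant_sylow`, `exists_centralizer_conj_sylow`, `exists_le_invariant_sylow`.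
* `commutator_sup_centralizer`, `commutator_commutator_eq`, `abelian_decomposition`.
* `le_centralizer_of_trivial_mod_frattini`, `thompson_pxq`.
-/

set_option autoImplicit false

open Subgroup
open scoped Pointwise commutatorElement

namespace Cfsg.Agent.Coprime

universe u

variable {G : Type u} [Group G]

/-- The commutator of `K` and `A` lies in `K` if `A` normalises `K`. -/
theorem commutator_le_of_le_normalizer {A K : Subgroup G} (hAK : A ≤ normalizer (K : Set G)) :
    ⁅K, A⁆ ≤ K :=
  le_normalizer_iff_commutator_le_left.mp hAK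

/-- An element of `K` normalising `A` centralises `A` if `K ∩ A = 1` and `A` normalises `K`. -/
theorem mem_centralizer_of_mem_normalizer {A K : Subgroup G} (hAK : A ≤ normalizer (K : Set G))
    (hd : K ⊓ A = ⊥) {k : G} (hk : k ∈ K) (hkA : k ∈ normalizer (A : Set G)) :
    k ∈ centralizer (A : Set G) := by
  rw [mem_centralizer_iff]
  intro a ha
  have h1 : k * a * k⁻¹ * a⁻¹ ∈ A :=
    A.mul_mem ((mem_normalizer_iff.mp hkA a).mp ha) (A.inv_mem ha)
  have h2 : k * a * k⁻¹ * a⁻¹ ∈ K := by
    have := (mem_normalizer_iff.mp (hAK ha) k⁻¹).mp (K.inv_mem hk)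
    simpa [mul_assoc] using K.mul_mem hk this
  have h3 : k * a * k⁻¹ * a⁻¹ = 1 := by
    rw [← Subgroup.mem_bot, ← hd]; exact ⟨h2, h1⟩
  have h4 := mul_inv_eq_one.mp h3
  calc a * k = (k * a * k⁻¹) * k := by rw [h4]
    _ = k * a := by rw [inv_mul_cancel_right]

theorem le_normalizer_commutator {A K : Subgroup G} :
    K ⊔ A ≤ normalizer ((⁅K, A⁆ : Subgroup G) : Set G) :=
  sup_le (normalizer_commutator_ge_left K A) (normalizer_commutator_ge_right K A)

variable [Finite G]

/-- In coprime action, every subgroup of `K ⊔ A` of the order of `A` is conjugate to `A` by an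
element of `K`. -/
theorem exists_conj_eq {A K B : Subgroup G} (hAK : A ≤ normalizer (K : Set G))
    (hcop : (Nat.card A).Coprime (Nat.card K))
    (hsolv : Group.IsSolvable A ∨ Group.IsSolvable K)
    (hB : B ≤ K ⊔ A) (hBc : Nat.card B = Nat.card A) :
    ∃ k ∈ K, MulAut.conj k • B = A := by
  have hd : K ⊓ A = ⊥ := inf_eq_bot_of_coprime hcop.symm
  have hdB : K ⊓ B = ⊥ := inf_eq_bot_of_coprime (hBc ▸ hcop.symm)
  have hBK : B ≤ normalizer (K : Set G) := hB.trans (sup_le Subgroup.le_normalizer hAK)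
  have hsup : K ⊔ A = K ⊔ B := by
    refine (Subgroup.eq_of_le_of_card_ge (sup_le le_sup_left hB) ?_).symm
    rw [card_sup_eq_mul hAK hd, card_sup_eq_mul hBK hdB, hBc]
  obtain ⟨k, hk, hc⟩ := exists_conj_of_sup_eq hAK hd hdB hsup hcop.symm hsolv.symm
  refine ⟨k⁻¹, K.inv_mem hk, ?_⟩
  rw [← hc, map_inv, inv_smul_smul]

/-- As `exists_conj_eq`, with the conjugating element in a subgroup `S` containing both copies. -/
theorem exists_conj_eq_within {A K B S : Subgroup G} (hAK : A ≤ normalizer (K : Set G))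
    (hcop : (Nat.card A).Coprime (Nat.card K))
    (hsolv : Group.IsSolvable A ∨ Group.IsSolvable K)
    (hB : B ≤ K ⊔ A) (hBc : Nat.card B = Nat.card A) (hAS : A ≤ S) (hBS : B ≤ S) :
    ∃ k ∈ K ⊓ S, MulAut.conj k • B = A :=
  exists_conj_eq (K := K ⊓ S) (le_normalizer_inf_of_le hAK hAS)
    (hcop.coprime_dvd_right (Subgroup.card_dvd_of_le inf_le_left))
    (hsolv.imp id (isSolvable_of_le inf_le_left))
    (by rw [← dedekind hAK hAS]; exact le_inf hB hBS) hBc

/-- A subgroup `S` with `K ⊔ S = K ⊔ A` contains a subgroup of the order of `A`. -/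
theorem exists_le_card_eq {A K S : Subgroup G} (hAK : A ≤ normalizer (K : Set G))
    (hcop : (Nat.card A).Coprime (Nat.card K)) (hKS : K ⊔ S = K ⊔ A) :
    ∃ B ≤ S, Nat.card B = Nat.card A := by
  have hd : K ⊓ A = ⊥ := inf_eq_bot_of_coprime hcop.symm
  have hSn : S ≤ normalizer (K : Set G) :=
    (le_sup_right.trans_eq hKS).trans (sup_le Subgroup.le_normalizer hAK)
  have hrel : K.relIndex (K ⊔ A) = Nat.card A := by
    have h := K.subgroupOf (K ⊔ A) |>.card_mul_index
    rw [card_subgroupOf le_sup_left, card_sup_eq_mul hAK hd] at h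
    exact Nat.eq_of_mul_eq_mul_left Nat.card_pos h
  have : (K.subgroupOf (K ⊔ A)).Normal :=
    normal_subgroupOf_of_le_normalizer (sup_le Subgroup.le_normalizer hAK)
  have : (K.subgroupOf S).Normal := normal_subgroupOf_of_le_normalizer hSn
  have hSL : S ≤ K ⊔ A := hKS ▸ le_sup_right
  have hidx : (K.subgroupOf S).index = Nat.card A := by
    have h := Subgroup.relIndex_sup_right (S.subgroupOf (K ⊔ A)) (K.subgroupOf (K ⊔ A))
    rw [← Subgroup.subgroupOf_sup hSL le_sup_left, sup_comm S, hKS, Subgroup.subgroupOf_self,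
      relIndex_top_right, relIndex_subgroupOf hSL] at h
    rw [← hrel]
    exact h.symm
  have hdvd : Nat.card (K.subgroupOf S) ∣ Nat.card K :=
    card_comap_dvd_of_injective K S.subtype S.subtype_injective
  obtain ⟨B, hB⟩ := exists_right_complement'_of_coprime (N := K.subgroupOf S)
    (by rw [hidx]; exact (hcop.coprime_dvd_right hdvd).symm)
  refine ⟨B.map S.subtype, Subgroup.map_subtype_le B, ?_⟩
  rw [Subgroup.card_map_of_injective S.subtype_injective, card_eq_index_of_isComplement' hB, hidx]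

/-- **Glauberman's lemma**, existence: if the `K`-orbit of `x` is `A`-invariant then it contains a
fixed point of `A`. -/
theorem exists_fixed_point {X : Type*} [MulAction G X] {A K : Subgroup G}
    (hAK : A ≤ normalizer (K : Set G)) (hcop : (Nat.card A).Coprime (Nat.card K))
    (hsolv : Group.IsSolvable A ∨ Group.IsSolvable K) (x : X)
    (hx : ∀ a ∈ A, ∃ k ∈ K, a • x = k • x) :
    ∃ k ∈ K, ∀ a ∈ A, a • (k • x) = k • x := by
  have hKS : K ⊔ (MulAction.stabilizer G x ⊓ (K ⊔ A)) = K ⊔ A := by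
    refine le_antisymm (sup_le le_sup_left inf_le_right) (sup_le le_sup_left ?_)
    intro a ha
    obtain ⟨k, hk, hka⟩ := hx a ha
    rw [← mul_inv_cancel_left k a]
    have hst : k⁻¹ * a ∈ MulAction.stabilizer G x := by
      rw [MulAction.mem_stabilizer_iff, mul_smul, hka, inv_smul_smul]
    exact mul_mem_sup hk
      ⟨hst, (K ⊔ A).mul_mem (mem_sup_left (K.inv_mem hk)) (mem_sup_right ha)⟩
  obtain ⟨B, hBS, hBc⟩ := exists_le_card_eq hAK hcop hKS
  obtain ⟨k, hk, hkB⟩ := exists_conj_eq hAK hcop hsolv (hBS.trans inf_le_right) hBc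
  refine ⟨k, hk, fun a ha => ?_⟩
  rw [← hkB, mem_conj_smul] at ha
  have := MulAction.mem_stabilizer_iff.mp (hBS ha).1
  rw [← mul_smul, show a * k = k * (k⁻¹ * a * k) by simp [mul_assoc], mul_smul, this]

/-- **Glauberman's lemma**, transitivity: two `A`-fixed points in one `K`-orbit differ by an
element of `C_K(A)`. -/
theorem exists_centralizer_smul_eq {X : Type*} [MulAction G X] {A K : Subgroup G}
    (hAK : A ≤ normalizer (K : Set G)) (hcop : (Nat.card A).Coprime (Nat.card K))
    (hsolv : Group.IsSolvable A ∨ Group.IsSolvable K) {x y : X}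
    (hx : ∀ a ∈ A, a • x = x) (hy : ∀ a ∈ A, a • y = y) {k : G} (hk : k ∈ K) (hkx : k • x = y) :
    ∃ c ∈ K ⊓ centralizer (A : Set G), c • x = y := by
  have hB : MulAut.conj k • A ≤ K ⊔ A :=
    conj_smul_le_self (Subgroup.le_normalizer (mem_sup_left hk)) le_sup_right
  have hBS : MulAut.conj k • A ≤ MulAction.stabilizer G y := by
    intro b hb
    rw [mem_conj_smul] at hb
    rw [MulAction.mem_stabilizer_iff, ← hkx, ← mul_smul,
      show b * k = k * (k⁻¹ * b * k) by simp [mul_assoc], mul_smul, hx _ hb]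
  obtain ⟨n, hn, hnB⟩ := exists_conj_eq_within hAK hcop hsolv hB (card_conj_smul k A)
    (S := MulAction.stabilizer G y) (fun a ha => hy a ha) hBS
  rw [← conj_mul_smul] at hnB
  refine ⟨n * k, ⟨K.mul_mem hn.1 hk, mem_centralizer_of_mem_normalizer hAK
    (inf_eq_bot_of_coprime hcop.symm) (K.mul_mem hn.1 hk)
    (mem_normalizer_of_conj_smul_eq hnB)⟩, ?_⟩
  rw [mul_smul, hkx]
  exact hn.2

/-- A coset `kN` of an `A`-invariant subgroup `N` which is fixed by `A` contains an element
centralised by `A`. -/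
theorem exists_fixed_mem_leftCoset {A N : Subgroup G} (hAN : A ≤ normalizer (N : Set G))
    (hcop : (Nat.card A).Coprime (Nat.card N))
    (hsolv : Group.IsSolvable A ∨ Group.IsSolvable N) {k : G}
    (hk : ∀ a ∈ A, k⁻¹ * (a * k * a⁻¹) ∈ N) :
    ∃ n ∈ N, k * n ∈ centralizer (A : Set G) := by
  have hB : MulAut.conj k⁻¹ • A ≤ N ⊔ A := by
    intro b hb
    rw [mem_conj_smul, inv_inv] at hb
    have h := mul_mem_sup (hk _ hb) hb
    simpa [mul_assoc] using h
  obtain ⟨n, hn, hc⟩ := exists_conj_eq hAN hcop hsolv hB (card_conj_smul k⁻¹ A)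
  rw [← conj_mul_smul] at hc
  have hnor : (n * k⁻¹)⁻¹ ∈ normalizer (A : Set G) := inv_mem (mem_normalizer_of_conj_smul_eq hc)
  rw [mul_inv_rev, inv_inv] at hnor
  refine ⟨n⁻¹, N.inv_mem hn, ?_⟩
  rw [mem_centralizer_iff]
  intro a ha
  set c := k * n⁻¹ with hcdef
  have h1 : c⁻¹ * a * c * a⁻¹ ∈ A :=
    A.mul_mem ((mem_normalizer_iff''.mp hnor a).mp ha) (A.inv_mem ha)
  have h2 : c⁻¹ * a * c * a⁻¹ ∈ N := by
    have e : c⁻¹ * a * c * a⁻¹ = n * (k⁻¹ * (a * k * a⁻¹)) * (a * n⁻¹ * a⁻¹) := by
      simp [hcdef, mul_assoc]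
    rw [e]
    exact N.mul_mem (N.mul_mem hn (hk a ha))
      ((mem_normalizer_iff.mp (hAN ha) _).mp (N.inv_mem hn))
  have h3 : c⁻¹ * a * c * a⁻¹ = 1 := by
    rw [← Subgroup.mem_bot, ← inf_eq_bot_of_coprime (H := N) (K := A) hcop.symm]
    exact ⟨h2, h1⟩
  have h4 := mul_inv_eq_one.mp h3
  calc a * c = c * (c⁻¹ * a * c) := by simp [mul_assoc]
    _ = c * a := by rw [h4]

/-- Fixed points of a quotient, stated with a homomorphism: `A`-fixed points of `f(K)` are the
images of `A`-fixed points of `K` when `ker f ∩ K` has order coprime to that of `A`. -/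
theorem map_inf_centralizer {H : Type*} [Group H] (f : G →* H) {A K : Subgroup G}
    (hAK : A ≤ normalizer (K : Set G)) (hker : f.ker ≤ K)
    (hcop : (Nat.card A).Coprime (Nat.card f.ker))
    (hsolv : Group.IsSolvable A ∨ Group.IsSolvable f.ker) :
    (K ⊓ centralizer (A : Set G)).map f = K.map f ⊓ centralizer ((A.map f : Subgroup H) : Set H) := by
  refine le_antisymm ?_ ?_
  · rintro _ ⟨c, ⟨hcK, hc⟩, rfl⟩
    refine ⟨mem_map_of_mem f hcK, ?_⟩
    rintro _ ⟨a, ha, rfl⟩
    rw [← map_mul, ← map_mul, mem_centralizer_iff.mp hc a ha]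
  · rintro _ ⟨⟨k, hk, rfl⟩, hkc⟩
    have hk' : ∀ a ∈ A, k⁻¹ * (a * k * a⁻¹) ∈ f.ker := by
      intro a ha
      have := mem_centralizer_iff.mp hkc (f a) (mem_map_of_mem f ha)
      rw [MonoidHom.mem_ker, map_mul, map_mul, map_mul, map_inv, map_inv, this]
      simp
    obtain ⟨n, hn, hc⟩ := exists_fixed_mem_leftCoset
      (Subgroup.le_normalizer_of_normal) hcop hsolv hk'
    exact ⟨k * n, ⟨K.mul_mem hk (hker hn), hc⟩, by
      rw [map_mul, MonoidHom.mem_ker.mp hn, mul_one]⟩

/-! ### Invariant Sylow subgroups -/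

theorem exists_invariant_sylow {A K : Subgroup G} (hAK : A ≤ normalizer (K : Set G))
    (hcop : (Nat.card A).Coprime (Nat.card K))
    (hsolv : Group.IsSolvable A ∨ Group.IsSolvable K) (p : ℕ) [Fact p.Prime] :
    ∃ P : Sylow p K, A ≤ normalizer ((P : Subgroup K).map K.subtype : Set G) := by
  obtain ⟨P⟩ : Nonempty (Sylow p K) := inferInstance
  letI : MulAction G (Subgroup G) := MulAction.compHom (Subgroup G) (MulAut.conj : G →* MulAut G)
  have hx : ∀ a ∈ A, ∃ k ∈ K,
      a • (P : Subgroup K).map K.subtype = k • (P : Subgroup K).map K.subtype := by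
    intro a ha
    set R : Subgroup G := MulAut.conj a • (P : Subgroup K).map K.subtype with hR
    have hRK : R ≤ K := conj_smul_le_self (hAK ha) (map_subtype_le _)
    have hRc : Nat.card R = Nat.card (P : Subgroup K) := by
      rw [hR, card_conj_smul, card_map_of_injective K.subtype_injective]
    obtain ⟨Q, hQ⟩ : ∃ Q : Sylow p K, (Q : Subgroup K) = R.subgroupOf K :=
      ⟨Sylow.ofCard (R.subgroupOf K) (by
        rw [card_subgroupOf hRK, hRc, P.card_eq_multiplicity]), Sylow.coe_ofCard _ _⟩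
    obtain ⟨k, hk⟩ := MulAction.exists_smul_eq K P Q
    refine ⟨k, k.2, ?_⟩
    change R = MulAut.conj (k : G) • _
    rw [← conj_smul_map_subtype, ← Sylow.coe_subgroup_smul, hk, hQ,
      map_subgroupOf_eq_of_le hRK]
  obtain ⟨k, hk, hfix⟩ := exists_fixed_point hAK hcop hsolv _ hx
  refine ⟨(⟨k, hk⟩ : K) • P, fun a ha => ?_⟩
  rw [Sylow.coe_subgroup_smul, conj_smul_map_subtype]
  exact mem_normalizer_of_conj_smul_eq (hfix a ha)

theorem exists_centralizer_conj_sylow {A K : Subgroup G} (hAK : A ≤ normalizer (K : Set G))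
    (hcop : (Nat.card A).Coprime (Nat.card K))
    (hsolv : Group.IsSolvable A ∨ Group.IsSolvable K) {p : ℕ} [Fact p.Prime] (P Q : Sylow p K)
    (hP : A ≤ normalizer ((P : Subgroup K).map K.subtype : Set G))
    (hQ : A ≤ normalizer ((Q : Subgroup K).map K.subtype : Set G)) :
    ∃ c : K, (c : G) ∈ centralizer (A : Set G) ∧ MulAut.conj c • P = Q := by
  letI : MulAction G (Subgroup G) := MulAction.compHom (Subgroup G) (MulAut.conj : G →* MulAut G)
  obtain ⟨k, hk⟩ := MulAction.exists_smul_eq K P Q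
  have hkPQ : (k : G) • (P : Subgroup K).map K.subtype = (Q : Subgroup K).map K.subtype := by
    change MulAut.conj (k : G) • (P : Subgroup K).map K.subtype = (Q : Subgroup K).map K.subtype
    rw [← conj_smul_map_subtype, ← Sylow.coe_subgroup_smul, hk]
  obtain ⟨c, hc, hcPQ⟩ := exists_centralizer_smul_eq hAK hcop hsolv
    (x := (P : Subgroup K).map K.subtype) (y := (Q : Subgroup K).map K.subtype)
    (fun a ha => conj_smul_eq_self_of_mem_normalizer (hP ha))
    (fun a ha => conj_smul_eq_self_of_mem_normalizer (hQ ha)) k.2 hkPQ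
  refine ⟨⟨c, hc.1⟩, hc.2, ?_⟩
  rw [← Sylow.smul_def]
  apply Sylow.ext
  apply map_injective K.subtype_injective
  rw [Sylow.coe_subgroup_smul, conj_smul_map_subtype]
  exact hcPQ

/-- Every `A`-invariant `p`-subgroup of `K` lies in an `A`-invariant Sylow `p`-subgroup of `K`. -/
theorem exists_le_invariant_sylow {A K : Subgroup G} (hAK : A ≤ normalizer (K : Set G))
    (hcop : (Nat.card A).Coprime (Nat.card K))
    (hsolv : Group.IsSolvable A ∨ Group.IsSolvable K) {p : ℕ} [Fact p.Prime] {U : Subgroup G}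
    (hUK : U ≤ K) (hU : IsPGroup p U) (hUA : A ≤ normalizer (U : Set G)) :
    ∃ P : Sylow p K, U ≤ (P : Subgroup K).map K.subtype ∧
      A ≤ normalizer ((P : Subgroup K).map K.subtype : Set G) := by
  obtain ⟨V, ⟨hVK, hV, hVA, hUV⟩, hmax⟩ := wellFounded_gt.has_min
    {V : Subgroup G | V ≤ K ∧ IsPGroup p V ∧ A ≤ normalizer (V : Set G) ∧ U ≤ V}
    ⟨U, hUK, hU, hUA, le_rfl⟩
  set N : Subgroup G := K ⊓ normalizer (V : Set G) with hNdef
  have hAN : A ≤ normalizer (N : Set G) :=
    le_normalizer_inf_of_le hAK hVA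
  obtain ⟨P₁, hP₁⟩ := exists_invariant_sylow hAN
    (hcop.coprime_dvd_right (card_dvd_of_le inf_le_left))
    (hsolv.imp id (isSolvable_of_le inf_le_left)) p
  have hVN : V ≤ N := le_inf hVK Subgroup.le_normalizer
  have : (V.subgroupOf N).Normal := normal_subgroupOf_of_le_normalizer inf_le_right
  have hVP : V.subgroupOf N ≤ (P₁ : Subgroup N) :=
    (IsPGroup.of_equiv hV (subgroupOfEquivOfLe hVN).symm).le_sylow_of_normal P₁
  have hVP' : V ≤ (P₁ : Subgroup N).map N.subtype := by
    have := map_mono (f := N.subtype) hVP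
    rwa [map_subgroupOf_eq_of_le hVN] at this
  have heq : V = (P₁ : Subgroup N).map N.subtype := by
    refine eq_of_le_of_not_lt hVP' fun hlt => hmax _
      ⟨(map_subtype_le _).trans inf_le_left, P₁.2.map _, hP₁, hUV.trans hVP'⟩ hlt
  obtain ⟨P, hP⟩ := (IsPGroup.of_equiv hV (subgroupOfEquivOfLe hVK).symm).exists_le_sylow
  have hVP2 : V ≤ (P : Subgroup K).map K.subtype := by
    have := map_mono (f := K.subtype) hP
    rwa [map_subgroupOf_eq_of_le hVK] at this
  suffices h : V = (P : Subgroup K).map K.subtype by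
    exact ⟨P, hUV.trans hVP2, h ▸ hVA⟩
  refine eq_of_le_of_not_lt hVP2 fun hlt => ?_
  set R : Subgroup G := (P : Subgroup K).map K.subtype with hRdef
  have : Fact p.Prime := inferInstance
  have hRp : IsPGroup p R := P.2.map _
  have : Group.IsNilpotent R := hRp.isNilpotent
  have hVR : V.subgroupOf R < ⊤ := lt_top_iff_ne_top.mpr fun h =>
    hlt.not_ge (subgroupOf_eq_top.mp h)
  obtain ⟨x, hx, hxV⟩ := SetLike.exists_of_lt (Group.normalizerCondition_of_isNilpotent _ hVR)
  have hxN : (x : G) ∈ normalizer (V : Set G) := by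
    rw [mem_normalizer_iff]
    intro v
    constructor
    · intro hv
      exact (mem_normalizer_iff.mp hx ⟨v, hVP2 hv⟩).mp hv
    · intro hv
      have hvR : v ∈ R := by
        have := R.mul_mem (R.mul_mem (R.inv_mem x.2) (hVP2 hv)) x.2
        simpa [mul_assoc] using this
      exact (mem_normalizer_iff.mp hx ⟨v, hvR⟩).mpr hv
  have hle : R ⊓ normalizer (V : Set G) ≤ N := inf_le_inf_right _ (map_subtype_le _)
  have hQp : IsPGroup p ((R ⊓ normalizer (V : Set G)).subgroupOf N) :=
    IsPGroup.of_equiv (hRp.to_le inf_le_left) (subgroupOfEquivOfLe hle).symm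
  have hle2 : (P₁ : Subgroup N) ≤ (R ⊓ normalizer (V : Set G)).subgroupOf N := by
    intro y hy
    have hyV : (y : G) ∈ V := heq ▸ mem_map_of_mem _ hy
    exact ⟨hVP2 hyV, Subgroup.le_normalizer hyV⟩
  have := P₁.3 hQp hle2
  refine hxV ?_
  change (x : G) ∈ V
  rw [heq]
  exact ⟨⟨x, hle ⟨x.2, hxN⟩⟩, this ▸ (⟨x.2, hxN⟩ : (x : G) ∈ R ⊓ normalizer (V : Set G)), rfl⟩

/-! ### Commutators -/

theorem commutator_sup_centralizer {A K : Subgroup G} (hAK : A ≤ normalizer (K : Set G))
    (hcop : (Nat.card A).Coprime (Nat.card K))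
    (hsolv : Group.IsSolvable A ∨ Group.IsSolvable K) :
    ⁅K, A⁆ ⊔ (K ⊓ centralizer (A : Set G)) = K := by
  have hle := commutator_le_of_le_normalizer hAK
  refine le_antisymm (sup_le hle inf_le_left) fun k hk => ?_
  obtain ⟨n, hn, hc⟩ := exists_fixed_mem_leftCoset (N := ⁅K, A⁆)
    (normalizer_commutator_ge_right K A) (hcop.coprime_dvd_right (card_dvd_of_le hle))
    (hsolv.imp id (isSolvable_of_le hle)) (k := k) (fun a ha => by
      have := commutator_mem_commutator (K.inv_mem hk) ha
      simpa [commutatorElement_def, mul_assoc] using this)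
  have := mul_mem_sup (S := K ⊓ centralizer (A : Set G)) (T := ⁅K, A⁆)
    (⟨K.mul_mem hk (hle hn), hc⟩ : k * n ∈ K ⊓ centralizer (A : Set G)) (inv_mem hn)
  rwa [mul_inv_cancel_right, sup_comm] at this

theorem commutator_commutator_eq {A K : Subgroup G} (hAK : A ≤ normalizer (K : Set G))
    (hcop : (Nat.card A).Coprime (Nat.card K))
    (hsolv : Group.IsSolvable A ∨ Group.IsSolvable K) :
    ⁅⁅K, A⁆, A⁆ = ⁅K, A⁆ := by
  have hle := commutator_le_of_le_normalizer hAK
  refine le_antisymm (commutator_le_of_le_normalizer (normalizer_commutator_ge_right K A)) ?_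
  rw [commutator_le]
  intro k hk a ha
  rw [← commutator_sup_centralizer hAK hcop hsolv] at hk
  obtain ⟨n, hn, c, hc, rfl⟩ := (mem_sup_of_le_normalizer
    (inf_le_left.trans (normalizer_commutator_ge_left K A))).mp hk
  have hca : c * a = a * c := (mem_centralizer_iff.mp hc.2 a ha).symm
  have e : ⁅n * c, a⁆ = ⁅n, a⁆ := by
    rw [commutatorElement_def, commutatorElement_def, mul_inv_rev]
    calc n * c * a * (c⁻¹ * n⁻¹) * a⁻¹ = n * (c * a) * c⁻¹ * n⁻¹ * a⁻¹ := by simp [mul_assoc]
      _ = n * (a * c) * c⁻¹ * n⁻¹ * a⁻¹ := by rw [hca]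
      _ = n * a * n⁻¹ * a⁻¹ := by simp [mul_assoc]
  rw [e]
  exact commutator_mem_commutator hn ha

/-- In a coprime action on an abelian group the fixed points meet `[V, A]` trivially. -/
theorem centralizer_inf_commutator_eq_bot {A V : Subgroup G} [IsMulCommutative V]
    (hAV : A ≤ normalizer (V : Set G)) (hcop : (Nat.card A).Coprime (Nat.card V)) :
    (V ⊓ centralizer (A : Set G)) ⊓ ⁅V, A⁆ = ⊥ := by
  open scoped IsMulCommutative in
  classical
  have := Fintype.ofFinite A
  let cj : A →* MulAut V := V.normalizerMonoidHom.comp (inclusion hAV)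
  have hcj : ∀ (a : A) (v : V), ((cj a v : V) : G) = (a : G) * v * (a : G)⁻¹ := fun a v => rfl
  let π : V →* V := ∏ a : A, (cj a).toMonoidHom
  have hπ : ∀ v : V, π v = ∏ a : A, cj a v := fun v => by
    simp only [π, MonoidHom.finsetProd_apply]
    rfl
  have hinv : ∀ (b : A) (v : V), π (cj b v) = π v := by
    intro b v
    rw [hπ, hπ]
    exact Fintype.prod_equiv (Equiv.mulRight b) _ _ (fun a => by simp)
  have hcomm : ⁅V, A⁆ ≤ π.ker.map V.subtype := by
    rw [commutator_le]
    intro v hv a ha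
    refine ⟨⟨v, hv⟩ * (cj ⟨a, ha⟩ ⟨v, hv⟩)⁻¹, ?_, ?_⟩
    · rw [SetLike.mem_coe, MonoidHom.mem_ker, map_mul, map_inv, hinv, mul_inv_cancel]
    · simp [commutatorElement_def, hcj, mul_assoc]
  rw [eq_bot_iff]
  rintro x ⟨⟨hxV, hxC⟩, hxW⟩
  obtain ⟨w, hw, rfl⟩ := hcomm hxW
  have hfix : ∀ a : A, cj a w = w := fun a => by
    apply Subtype.ext
    have := mem_centralizer_iff.mp hxC a a.2
    simp only [Subgroup.coe_subtype] at this
    rw [hcj, this, mul_inv_cancel_right]
  have hpow : w ^ Nat.card A = 1 := by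
    rw [← MonoidHom.mem_ker.mp hw, hπ, Finset.prod_congr rfl (fun a _ => hfix a),
      Finset.prod_const, Finset.card_univ, Nat.card_eq_fintype_card]
  have hw1 : w = 1 := (powCoprime hcop.symm).injective (by simpa using hpow)
  simp [hw1]

theorem abelian_decomposition {A V : Subgroup G} [IsMulCommutative V]
    (hAV : A ≤ normalizer (V : Set G)) (hcop : (Nat.card A).Coprime (Nat.card V)) :
    (V ⊓ centralizer (A : Set G)) ⊓ ⁅V, A⁆ = ⊥ ∧ (V ⊓ centralizer (A : Set G)) ⊔ ⁅V, A⁆ = V := by
  refine ⟨centralizer_inf_commutator_eq_bot hAV hcop, ?_⟩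
  rw [sup_comm]
  exact commutator_sup_centralizer hAV hcop
    (Or.inr (Group.isSolvable_of_comm fun a b => IsMulCommutative.is_comm.comm a b))

/-- A coprime action on an abelian group fixing all elements of prime order is trivial. -/
theorem le_centralizer_of_fixes_prime_order {A V : Subgroup G} [IsMulCommutative V]
    (hAV : A ≤ normalizer (V : Set G)) (hcop : (Nat.card A).Coprime (Nat.card V))
    (hΩ : ∀ v ∈ V, (orderOf v).Prime → ∀ a ∈ A, a * v = v * a) :
    A ≤ centralizer (V : Set G) := by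
  rw [← Subgroup.commutator_eq_bot_iff_le_centralizer, commutator_comm]
  by_contra hne
  obtain ⟨p, hp, hdvd⟩ := Nat.exists_prime_and_dvd
    (show Nat.card (⁅V, A⁆ : Subgroup G) ≠ 1 from fun h => hne (Subgroup.card_eq_one.mp h))
  have := Fact.mk hp
  obtain ⟨w, hw⟩ := exists_prime_orderOf_dvd_card' p hdvd
  have hwV : (w : G) ∈ V := commutator_le_of_le_normalizer hAV w.2
  have hord : orderOf (w : G) = p := (orderOf_coe w).trans hw
  have hwC : (w : G) ∈ centralizer (A : Set G) := by
    rw [mem_centralizer_iff]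
    exact fun a ha => hΩ _ hwV (hord ▸ hp) a ha
  have : (w : G) = 1 := by
    rw [← Subgroup.mem_bot, ← centralizer_inf_commutator_eq_bot hAV hcop]
    exact ⟨⟨hwV, hwC⟩, w.2⟩
  rw [this, orderOf_one] at hord
  exact hp.ne_one hord.symm

/-- A coprime action which is trivial on the Frattini quotient is trivial. -/
theorem le_centralizer_of_trivial_mod_frattini {A K : Subgroup G}
    (hAK : A ≤ normalizer (K : Set G))
    (hcop : (Nat.card A).Coprime (Nat.card (frattini K)))
    (htriv : ∀ a ∈ A, ∀ k ∈ K, a * k * a⁻¹ * k⁻¹ ∈ (frattini K).map K.subtype) :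
    A ≤ centralizer (K : Set G) := by
  set F : Subgroup G := (frattini K).map K.subtype with hF
  have hFK : F ≤ K := map_subtype_le _
  have hAF : A ≤ normalizer (F : Set G) := by
    rw [le_normalizer_iff_commutator_le_left, commutator_le]
    intro f hf a ha
    have := F.inv_mem (htriv a ha f (hFK hf))
    simpa [commutatorElement_def, mul_assoc] using this
  have hsolv : Group.IsSolvable F := by
    have := frattini_nilpotent (G := K)
    exact Group.isSolvable_of_surjective (K.subtype.subgroupMap_surjective (frattini K))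
  have hFc : Nat.card F = Nat.card (frattini K) := card_map_of_injective K.subtype_injective
  have htop : (centralizer (A : Set G)).subgroupOf K ⊔ frattini K = ⊤ := by
    rw [eq_top_iff]
    rintro ⟨k, hk⟩ -
    obtain ⟨n, hn, hc⟩ := exists_fixed_mem_leftCoset (N := F) hAF (hFc ▸ hcop) (Or.inr hsolv)
      (k := k) (fun a ha => by
        have h1 := htriv a ha k hk
        have : (frattini K).Normal := inferInstance
        obtain ⟨f, hf, hf'⟩ := h1
        refine ⟨(⟨k, hk⟩ : K)⁻¹ * f * ⟨k, hk⟩, ?_, ?_⟩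
        · simpa using Subgroup.Normal.conj_mem inferInstance f hf (⟨k, hk⟩ : K)⁻¹
        · simp only [map_mul, map_inv]
          rw [hf']
          simp [mul_assoc])
    obtain ⟨f, hf, rfl⟩ := hn
    have hmem : (⟨k, hk⟩ : K) * f ∈ (centralizer (A : Set G)).subgroupOf K := hc
    have := mul_mem_sup hmem ((frattini K).inv_mem hf)
    rwa [mul_inv_cancel_right] at this
  have := subgroupOf_eq_top.mp (frattini_nongenerating htop)
  rw [← Subgroup.commutator_eq_bot_iff_le_centralizer, commutator_comm,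
    Subgroup.commutator_eq_bot_iff_le_centralizer]
  exact this

/-- For a `p`-group `P` normalising a nontrivial `p`-group `U`, `[U, P] < U`. -/
theorem commutator_lt_of_isPGroup {p : ℕ} [Fact p.Prime] {P U : Subgroup G}
    (hP : IsPGroup p P) (hU : IsPGroup p U) (hPU : P ≤ normalizer (U : Set G)) (hne : U ≠ ⊥) :
    ⁅U, P⁆ < U := by
  refine lt_of_le_of_ne (commutator_le_of_le_normalizer hPU) fun heq => hne ?_
  have hL : IsPGroup p (U ⊔ P : Subgroup G) := hU.to_sup_of_normal_left' hP hPU
  obtain ⟨n, hn⟩ := (isNilpotent_iff_lowerCentralSeries (U ⊔ P)).mp hL.isNilpotent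
  have key : ∀ m : ℕ, U ≤ (U ⊔ P).lowerCentralSeries m := by
    intro m
    induction m with
    | zero => exact le_sup_left
    | succ m ih =>
      rw [Subgroup.lowerCentralSeries_succ]
      exact heq.ge.trans (commutator_mono ih le_sup_right)
  simpa [hn] using key n

/-- **Thompson's `P × Q` lemma**. -/
theorem thompson_pxq {p : ℕ} [Fact p.Prime] {P Q U : Subgroup G} (hP : IsPGroup p P)
    (hQ : (Nat.card Q).Coprime p) (hU : IsPGroup p U) (hPQ : P ≤ centralizer (Q : Set G))
    (hPU : P ≤ normalizer (U : Set G)) (hQU : Q ≤ normalizer (U : Set G))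
    (hC : U ⊓ centralizer (P : Set G) ≤ centralizer (Q : Set G)) :
    Q ≤ centralizer (U : Set G) := by
  induction U using WellFoundedLT.induction with
  | _ U ih =>
  by_cases hne : U = ⊥
  · subst hne
    intro x _
    simp [mem_centralizer_iff]
  set V : Subgroup G := ⁅U, P⁆ with hV
  have hlt : V < U := commutator_lt_of_isPGroup hP hU hPU hne
  have hQP : Q ≤ centralizer (P : Set G) := Subgroup.le_centralizer_iff.mp hPQ
  have hQV : Q ≤ normalizer (V : Set G) := by
    intro q hq
    apply mem_normalizer_of_conj_smul_eq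
    rw [hV, conj_smul_eq_map, map_commutator, ← conj_smul_eq_map, ← conj_smul_eq_map,
      conj_smul_eq_self_of_mem_normalizer (hQU hq),
      conj_smul_eq_self_of_mem_normalizer (centralizer_le_normalizer _ (hQP hq))]
  have hVQ : Q ≤ centralizer (V : Set G) :=
    ih V hlt (hU.to_le hlt.le) (normalizer_commutator_ge_right U P) hQV
      ((inf_le_inf_right _ hlt.le).trans hC)
  have h1 : ⁅⁅U, P⁆, Q⁆ = ⊥ := by
    rw [Subgroup.commutator_eq_bot_iff_le_centralizer]
    exact Subgroup.le_centralizer_iff.mp hVQ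
  have h2 : ⁅⁅P, Q⁆, U⁆ = ⊥ := by
    rw [Subgroup.commutator_eq_bot_iff_le_centralizer.mpr hPQ, commutator_bot_left]
  have h3 : ⁅⁅Q, U⁆, P⁆ = ⊥ := Subgroup.commutator_commutator_eq_bot_of_rotate h1 h2
  rw [Subgroup.commutator_eq_bot_iff_le_centralizer] at h3
  have h4 : ⁅U, Q⁆ ≤ centralizer (Q : Set G) :=
    (le_inf (commutator_le_of_le_normalizer hQU) (commutator_comm U Q ▸ h3)).trans hC
  obtain ⟨n, hn⟩ := IsPGroup.iff_card.mp hU
  have hcopU : (Nat.card Q).Coprime (Nat.card U) := by
    rw [hn]; exact hQ.pow_right n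
  have h5 : ⁅U, Q⁆ = ⊥ := by
    rw [← commutator_commutator_eq hQU hcopU (Or.inr (by
      have := hU.isNilpotent; infer_instance))]
    exact Subgroup.commutator_eq_bot_iff_le_centralizer.mpr h4
  rw [← Subgroup.commutator_eq_bot_iff_le_centralizer, commutator_comm]
  exact h5

end Cfsg.Agent.Coprime
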