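import Cfsg.Prelude.Def_OddOrderLocal
import Cfsg.Agent.Coprime.Basic
import Cfsg.Agent.Core.Hall

/-!
Invariant Hall subgroups in coprime action on a solvable group.

* `exists_invariant_hall`, `exists_centralizer_conj_hall`, `exists_le_invariant_hall`.
-/

set_option autoImplicit false

open Subgroup
open scoped Pointwise commutatorElement

namespace Cfsg.Agent.Coprime

universe u

/-- Every positive number is a `π`-number times a `π'`-number. -/
theorem exists_pi_split (π : Set ℕ) {N : ℕ} (hN : N ≠ 0) :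
    ∃ m n : ℕ, N = m * n ∧ (∀ p : ℕ, p.Prime → p ∣ m → p ∈ π) ∧
      (∀ p : ℕ, p.Prime → p ∣ n → p ∉ π) := by
  induction N using Nat.recOnMul with
  | zero => exact absurd rfl hN
  | one => exact ⟨1, 1, rfl, fun p hp h => absurd (Nat.dvd_one.mp h) hp.ne_one,
      fun p hp h => absurd (Nat.dvd_one.mp h) hp.ne_one⟩
  | prime q hq =>
    by_cases h : q ∈ π
    · exact ⟨q, 1, (mul_one q).symm, fun p hp hd => ((Nat.prime_dvd_prime_iff_eq hp hq).mp hd) ▸ h,
        fun p hp hd => absurd (Nat.dvd_one.mp hd) hp.ne_one⟩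
    · exact ⟨1, q, (one_mul q).symm, fun p hp hd => absurd (Nat.dvd_one.mp hd) hp.ne_one,
        fun p hp hd => ((Nat.prime_dvd_prime_iff_eq hp hq).mp hd) ▸ h⟩
  | mul a b iha ihb =>
    obtain ⟨ha, hb⟩ := mul_ne_zero_iff.mp hN
    obtain ⟨m₁, n₁, rfl, h1, h2⟩ := iha ha
    obtain ⟨m₂, n₂, rfl, h3, h4⟩ := ihb hb
    exact ⟨m₁ * m₂, n₁ * n₂, by ring,
      fun p hp hd => (hp.dvd_mul.mp hd).elim (h1 p hp) (h3 p hp),
      fun p hp hd => (hp.dvd_mul.mp hd).elim (h2 p hp) (h4 p hp)⟩

variable {G : Type u} [Group G]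

theorem isPiHallOf_conj {π : Set ℕ} {H K : Subgroup G} (h : IsPiHallOf π H K) {g : G}
    (hg : g ∈ normalizer (K : Set G)) : IsPiHallOf π (MulAut.conj g • H) K := by
  refine ⟨conj_smul_le_self hg h.1, ?_, ?_⟩
  · intro p hp hd
    exact h.2.1 p hp (by rwa [card_conj_smul] at hd)
  · intro p hp hpπ
    have hrel : (MulAut.conj g • H).relIndex K = H.relIndex K := by
      conv_lhs => rw [← conj_smul_eq_self_of_mem_normalizer hg]
      exact Subgroup.relIndex_map_map_of_injective _ _ (MulEquiv.injective (MulAut.conj g))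
    rw [hrel]
    exact h.2.2 p hp hpπ

theorem coprime_of_isPiHallOf {π : Set ℕ} {H K : Subgroup G} (h : IsPiHallOf π H K) :
    (Nat.card H).Coprime (H.relIndex K) := by
  refine Nat.coprime_of_dvd fun p hp hd hd' => h.2.2 p hp (h.2.1 p hp hd) hd'

theorem card_mul_relIndex_of_le {H K : Subgroup G} (h : H ≤ K) :
    Nat.card H * H.relIndex K = Nat.card K := by
  rw [← card_subgroupOf h]
  exact (H.subgroupOf K).card_mul_index

theorem card_eq_of_isPiHallOf {π : Set ℕ} {H H' K : Subgroup G} (h : IsPiHallOf π H K)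
    (h' : IsPiHallOf π H' K) : Nat.card H = Nat.card H' := by
  have key : ∀ X Y : Subgroup G, IsPiHallOf π X K → IsPiHallOf π Y K →
      Nat.card X ∣ Nat.card Y := by
    intro X Y hX hY
    refine Nat.Coprime.dvd_of_dvd_mul_right ?_
      ((card_mul_relIndex_of_le hY.1).symm ▸ card_dvd_of_le hX.1)
    exact Nat.coprime_of_dvd fun p hp hd hd' => hY.2.2 p hp (hX.2.1 p hp hd) hd'
  exact Nat.dvd_antisymm (key _ _ h h') (key _ _ h' h)

variable [Finite G]

/-- Two Hall `π`-subgroups of a solvable subgroup `K` are conjugate in `K`. -/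
theorem exists_conj_isPiHallOf {π : Set ℕ} {H H' K : Subgroup G} (hK : Group.IsSolvable K)
    (h : IsPiHallOf π H K) (h' : IsPiHallOf π H' K) : ∃ k ∈ K, MulAut.conj k • H = H' := by
  have hm : Nat.card K = Nat.card H * H.relIndex K := (card_mul_relIndex_of_le h.1).symm
  obtain ⟨k, hk⟩ := Core.exists_conj_hall (G := K) hm (coprime_of_isPiHallOf h)
    (H := H.subgroupOf K) (K := H'.subgroupOf K) (card_subgroupOf h.1)
    ((card_subgroupOf h'.1).trans (card_eq_of_isPiHallOf h' h))
  refine ⟨k, k.2, ?_⟩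
  have := congrArg (Subgroup.map K.subtype) hk
  rwa [conj_smul_map_subtype, map_subgroupOf_eq_of_le h.1, map_subgroupOf_eq_of_le h'.1] at this

theorem exists_isPiHallOf {K : Subgroup G} (hK : Group.IsSolvable K) (π : Set ℕ) :
    ∃ H : Subgroup G, IsPiHallOf π H K := by
  obtain ⟨m, n, hmn, hm, hn⟩ := exists_pi_split π (Nat.card_pos (α := K)).ne'
  have hc : m.Coprime n := Nat.coprime_of_dvd fun p hp hd hd' => hn p hp hd' (hm p hp hd)
  obtain ⟨H, hH⟩ := Core.exists_hall (G := K) hmn hc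
  refine ⟨H.map K.subtype, map_subtype_le H, ?_, ?_⟩
  · intro p hp hd
    exact hm p hp (by rwa [card_map_of_injective K.subtype_injective, hH] at hd)
  · intro p hp hpπ hd
    have h := card_mul_relIndex_of_le (map_subtype_le H)
    rw [card_map_of_injective K.subtype_injective, hH, hmn] at h
    have hm0 : 0 < m := hH ▸ Nat.card_pos
    rw [Nat.eq_of_mul_eq_mul_left hm0 h] at hd
    exact hn p hp hd hpπ

/-- An invariant Hall `π`-subgroup exists. -/
theorem exists_invariant_hall {A K : Subgroup G} (hAK : A ≤ normalizer (K : Set G))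
    (hcop : (Nat.card A).Coprime (Nat.card K)) (hK : Group.IsSolvable K) (π : Set ℕ) :
    ∃ H : Subgroup G, IsPiHallOf π H K ∧ A ≤ normalizer (H : Set G) := by
  obtain ⟨H, hH⟩ := exists_isPiHallOf hK π
  letI : MulAction G (Subgroup G) := MulAction.compHom (Subgroup G) (MulAut.conj : G →* MulAut G)
  have hx : ∀ a ∈ A, ∃ k ∈ K, a • H = k • H := by
    intro a ha
    obtain ⟨k, hk, hkH⟩ := exists_conj_isPiHallOf hK hH (isPiHallOf_conj hH (hAK ha))
    exact ⟨k, hk, hkH.symm⟩
  obtain ⟨k, hk, hfix⟩ := exists_fixed_point hAK hcop (Or.inr hK) H hx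
  exact ⟨MulAut.conj k • H, isPiHallOf_conj hH (Subgroup.le_normalizer hk),
    fun a ha => mem_normalizer_of_conj_smul_eq (hfix a ha)⟩

/-- Invariant Hall `π`-subgroups are conjugate under the fixed points. -/
theorem exists_centralizer_conj_hall {A K : Subgroup G} (hAK : A ≤ normalizer (K : Set G))
    (hcop : (Nat.card A).Coprime (Nat.card K)) (hK : Group.IsSolvable K) {π : Set ℕ}
    {H H' : Subgroup G} (h : IsPiHallOf π H K) (hA : A ≤ normalizer (H : Set G))
    (h' : IsPiHallOf π H' K) (hA' : A ≤ normalizer (H' : Set G)) :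
    ∃ c ∈ K ⊓ centralizer (A : Set G), MulAut.conj c • H = H' := by
  letI : MulAction G (Subgroup G) := MulAction.compHom (Subgroup G) (MulAut.conj : G →* MulAut G)
  obtain ⟨k, hk, hkH⟩ := exists_conj_isPiHallOf hK h h'
  exact exists_centralizer_smul_eq hAK hcop (Or.inr hK) (x := H) (y := H')
    (fun a ha => conj_smul_eq_self_of_mem_normalizer (hA ha))
    (fun a ha => conj_smul_eq_self_of_mem_normalizer (hA' ha)) hk hkH

theorem exists_normal_pSubgroup_le {A K : Subgroup G} (hAK : A ≤ normalizer (K : Set G))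
    (hK : Group.IsSolvable K) (hne : K ≠ ⊥) :
    ∃ p : ℕ, p.Prime ∧ ∃ M : Subgroup G, M ≤ K ∧ M ≠ ⊥ ∧ IsPGroup p M ∧
      K ⊔ A ≤ normalizer (M : Set G) := by
  set L : Subgroup G := K ⊔ A
  have : (K.subgroupOf L).Normal :=
    normal_subgroupOf_of_le_normalizer (sup_le Subgroup.le_normalizer hAK)
  have hne' : K.subgroupOf L ≠ ⊥ := fun h => hne (by
    rw [← Subgroup.card_eq_one, ← card_subgroupOf (le_sup_left : K ≤ L), h, Subgroup.card_bot])
  obtain ⟨M₀, hn, hcomm, hle, hM₀⟩ :=
    exists_minimal_normal_abelian (K.subgroupOf L) hne' (isSolvable_subgroupOf L hK)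
  obtain ⟨p, hp, hdvd⟩ := Nat.exists_prime_and_dvd
    (show Nat.card M₀ ≠ 1 from fun h => hM₀ (Subgroup.card_eq_one.mp h))
  have := Fact.mk hp
  obtain ⟨P⟩ : Nonempty (Sylow p M₀) := inferInstance
  have : (P : Subgroup M₀).Normal := Subgroup.normal_of_comm _
  have := P.characteristic_of_normal inferInstance
  have hnorm : ((P : Subgroup M₀).map M₀.subtype).Normal := inferInstance
  refine ⟨p, hp, ((P : Subgroup M₀).map M₀.subtype).map L.subtype, ?_, ?_, (P.2.map _).map _, ?_⟩
  · refine le_trans (map_mono ((map_subtype_le _).trans hle)) ?_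
    rw [map_subgroupOf_eq_of_le le_sup_left]
  · rw [Ne, Subgroup.map_eq_bot_iff_of_injective _ L.subtype_injective,
      Subgroup.map_eq_bot_iff_of_injective _ M₀.subtype_injective]
    exact P.ne_bot_of_dvd_card hdvd
  · refine le_trans ?_ (Subgroup.le_normalizer_map L.subtype)
    rw [Subgroup.normalizer_eq_top_iff.mpr hnorm, ← MonoidHom.range_eq_map, Subgroup.range_subtype]

private theorem le_invariant_hall_aux (n : ℕ) : ∀ (G : Type u) [Group G] [Finite G]
    (A K U : Subgroup G), Nat.card K = n → A ≤ normalizer (K : Set G) →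
    (Nat.card A).Coprime (Nat.card K) → Group.IsSolvable K → ∀ π : Set ℕ, U ≤ K →
    A ≤ normalizer (U : Set G) → (∀ p : ℕ, p.Prime → p ∣ Nat.card U → p ∈ π) →
    ∃ H : Subgroup G, IsPiHallOf π H K ∧ A ≤ normalizer (H : Set G) ∧ U ≤ H := by
  induction n using Nat.strong_induction_on with
  | _ n IH =>
  intro G _ _ A K U hn hAK hcop hK π hUK hUA hUπ
  by_cases hbot : K = ⊥
  · subst hbot
    refine ⟨⊥, ⟨le_rfl, fun p hp hd => ?_, fun p hp _ hd => ?_⟩,
      fun a _ => by rw [Subgroup.normalizer_eq_top]; trivial, hUK⟩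
    · rw [Subgroup.card_bot] at hd
      exact absurd (Nat.dvd_one.mp hd) hp.ne_one
    · rw [Subgroup.relIndex_self] at hd
      exact absurd (Nat.dvd_one.mp hd) hp.ne_one
  obtain ⟨p, hp, M, hMK, hMne, hMp, hMn⟩ := exists_normal_pSubgroup_le hAK hK hbot
  have := Fact.mk hp
  obtain ⟨j, hj⟩ := IsPGroup.iff_card.mp hMp
  set L : Subgroup G := K ⊔ A with hLdef
  have hnM : (M.subgroupOf L).Normal := normal_subgroupOf_of_le_normalizer hMn
  set f : L →* L ⧸ M.subgroupOf L := QuotientGroup.mk' (M.subgroupOf L) with hf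
  have hsurj : Function.Surjective f := QuotientGroup.mk'_surjective _
  have hKf : (Nat.card ((K.subgroupOf L).map f)) * Nat.card M = Nat.card K := by
    have h := Core.card_map_mk_mul (M.subgroupOf L) (K.subgroupOf L)
    rwa [inf_eq_right.mpr (show M.subgroupOf L ≤ K.subgroupOf L from Subgroup.comap_mono hMK),
      card_subgroupOf (hMK.trans le_sup_left), card_subgroupOf le_sup_left] at h
  have hlt : Nat.card ((K.subgroupOf L).map f) < n := by
    rw [← hn, ← hKf]
    exact lt_mul_of_one_lt_right Nat.card_pos (M.one_lt_card_iff_ne_bot.mpr hMne)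
  have hnorm : ∀ S : Subgroup G, S ≤ L → A ≤ normalizer (S : Set G) →
      (A.subgroupOf L).map f ≤ normalizer (((S.subgroupOf L).map f : Subgroup _) : Set _) := by
    intro S hS hSA
    refine le_trans (Subgroup.map_mono ?_) (Subgroup.le_normalizer_map f)
    intro x hx
    rw [Subgroup.mem_normalizer_iff]
    intro y
    exact Subgroup.mem_normalizer_iff.mp (hSA hx) y
  obtain ⟨Hb, hHb, hHbA, hUHb⟩ := IH _ hlt (L ⧸ M.subgroupOf L) ((A.subgroupOf L).map f)
    ((K.subgroupOf L).map f) ((U.subgroupOf L).map f) rfl (hnorm K le_sup_left hAK)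
    (Nat.Coprime.coprime_dvd_left ((card_map_dvd _ _).trans (card_subgroupOf le_sup_right).dvd)
      (Nat.Coprime.coprime_dvd_right (Dvd.intro _ hKf) hcop))
    (isSolvable_map f (isSolvable_subgroupOf L hK)) π
    (map_mono (Subgroup.comap_mono hUK)) (hnorm U (hUK.trans le_sup_left) hUA)
    (fun q hq hd => hUπ q hq (hd.trans ((card_map_dvd _ _).trans
      (card_subgroupOf (hUK.trans le_sup_left)).dvd)))
  set V : Subgroup G := (Hb.comap f).map L.subtype with hVdef
  have hker : M.subgroupOf L ≤ Hb.comap f := fun x hx => by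
    rw [Subgroup.mem_comap, hf, QuotientGroup.mk'_apply, (QuotientGroup.eq_one_iff x).mpr hx]
    exact one_mem _
  have hMV : M ≤ V := by
    rw [← map_subgroupOf_eq_of_le (hMK.trans le_sup_left : M ≤ L)]
    exact map_mono hker
  have hVK : V ≤ K := by
    rw [hVdef]
    refine le_trans (map_mono (Subgroup.comap_mono hHb.1)) ?_
    rw [Subgroup.comap_map_eq, QuotientGroup.ker_mk',
      sup_eq_left.mpr (show M.subgroupOf L ≤ K.subgroupOf L from Subgroup.comap_mono hMK),
      map_subgroupOf_eq_of_le le_sup_left]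
  have hUV : U ≤ V := by
    intro x hx
    exact ⟨⟨x, mem_sup_left (hUK hx)⟩, hUHb (mem_map_of_mem f (show (⟨x, _⟩ : L) ∈ U.subgroupOf L
      from hx)), rfl⟩
  have hVA : A ≤ normalizer (V : Set G) := by
    intro a ha
    have h : (⟨a, mem_sup_right ha⟩ : L) ∈ normalizer (Hb.comap f : Set L) := by
      rw [Subgroup.mem_normalizer_iff]
      intro y
      simp only [Subgroup.mem_comap, map_mul, map_inv]
      exact Subgroup.mem_normalizer_iff.mp (hHbA (mem_map_of_mem f
        (show (⟨a, mem_sup_right ha⟩ : L) ∈ A.subgroupOf L from ha))) (f y)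
    exact Subgroup.le_normalizer_map L.subtype (mem_map_of_mem L.subtype h)
  have hVcard : Nat.card V = Nat.card M * Nat.card Hb := by
    rw [hVdef, card_map_of_injective L.subtype_injective, hf, Core.card_comap_mk,
      card_subgroupOf (hMK.trans le_sup_left)]
  have hidx : V.relIndex K = Hb.relIndex ((K.subgroupOf L).map f) := by
    have h1 := card_mul_relIndex_of_le hVK
    have h2 := card_mul_relIndex_of_le hHb.1
    rw [hVcard] at h1
    have : Nat.card M * Nat.card Hb * V.relIndex K =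
        Nat.card M * Nat.card Hb * Hb.relIndex ((K.subgroupOf L).map f) := by
      rw [h1, mul_assoc, h2, mul_comm, hKf]
    exact Nat.eq_of_mul_eq_mul_left (Nat.mul_pos Nat.card_pos Nat.card_pos) this
  by_cases hpπ : p ∈ π
  · refine ⟨V, ⟨hVK, fun q hq hd => ?_, fun q hq hqπ => ?_⟩, hVA, hUV⟩
    · rw [hVcard] at hd
      rcases hq.dvd_mul.mp hd with h | h
      · rw [hj] at h
        exact ((Nat.prime_dvd_prime_iff_eq hq hp).mp (hq.dvd_of_dvd_pow h)) ▸ hpπ
      · exact hHb.2.1 q hq h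
    · rw [hidx]; exact hHb.2.2 q hq hqπ
  · -- `p ∉ π`
    suffices h : ∃ H : Subgroup G, IsPiHallOf π H V ∧ A ≤ normalizer (H : Set G) ∧ U ≤ H by
      obtain ⟨H, hH, hHA, hUH⟩ := h
      refine ⟨H, ⟨hH.1.trans hVK, hH.2.1, fun q hq hqπ hd => ?_⟩, hHA, hUH⟩
      rw [← relIndex_mul_relIndex H V K hH.1 hVK] at hd
      rcases hq.dvd_mul.mp hd with h | h
      · exact hH.2.2 q hq hqπ h
      · exact hHb.2.2 q hq hqπ (hidx ▸ h)
    rcases lt_or_eq_of_le hVK with hlt' | heq
    · refine IH _ ?_ G A V U rfl hVA (hcop.coprime_dvd_right (card_dvd_of_le hVK))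
        (isSolvable_of_le hVK hK) π hUV hUA hUπ
      rw [← hn]
      exact lt_of_le_of_ne (Nat.le_of_dvd Nat.card_pos (card_dvd_of_le hVK))
        fun h => hlt'.ne (Subgroup.eq_of_le_of_card_ge hVK h.ge)
    rw [heq]
    obtain ⟨H, hH, hHA⟩ := exists_invariant_hall hAK hcop hK π
    -- `W = M U` meets `H` in an invariant Hall subgroup of itself
    set W : Subgroup G := M ⊔ U with hW
    have hWK : W ≤ K := sup_le hMK hUK
    have hMW : ∀ q : ℕ, q.Prime → q ∈ π → ¬ q ∣ Nat.card M := fun q hq hqπ hd => hpπ (by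
      rw [hj] at hd
      exact (Nat.prime_dvd_prime_iff_eq hq hp).mp (hq.dvd_of_dvd_pow hd) ▸ hqπ)
    have hcopMU : (Nat.card M).Coprime (Nat.card U) :=
      Nat.coprime_of_dvd fun q hq hd hd' => hMW q hq (hUπ q hq hd') hd
    have hUM : U ≤ normalizer (M : Set G) := (hUK.trans le_sup_left).trans hMn
    have hcardW : Nat.card W = Nat.card M * Nat.card U :=
      card_sup_eq_mul hUM (inf_eq_bot_of_coprime hcopMU)
    have hUW : IsPiHallOf π U W := by
      refine ⟨le_sup_right, hUπ, fun q hq hqπ hd => hMW q hq hqπ ?_⟩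
      have h := card_mul_relIndex_of_le (le_sup_right : U ≤ W)
      rw [hcardW, mul_comm (Nat.card M)] at h
      rwa [Nat.eq_of_mul_eq_mul_left Nat.card_pos h] at hd
    have hMH : M ⊔ H = K := by
      refine Subgroup.eq_of_le_of_card_ge (sup_le hMK hH.1) ?_
      have hcMH : (Nat.card M).Coprime (Nat.card H) :=
        Nat.coprime_of_dvd fun q hq hd hd' => hMW q hq (hH.2.1 q hq hd') hd
      rw [card_sup_eq_mul ((hH.1.trans le_sup_left).trans hMn) (inf_eq_bot_of_coprime hcMH),
        ← heq, hVcard]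
      refine Nat.mul_le_mul_left _ (Nat.le_of_dvd Nat.card_pos ?_)
      have hHbπ : ∀ q : ℕ, q.Prime → q ∣ Nat.card Hb → ¬ q ∣ H.relIndex K :=
        fun q hq hd hd' => hH.2.2 q hq (hHb.2.1 q hq hd) hd'
      refine Nat.Coprime.dvd_of_dvd_mul_right (Nat.coprime_of_dvd hHbπ) ?_
      rw [card_mul_relIndex_of_le hH.1, ← heq, hVcard]
      exact dvd_mul_left _ _
    have hAW : A ≤ normalizer (W : Set G) := le_normalizer_sup (le_sup_right.trans hMn) hUA
    have hHW : IsPiHallOf π (H ⊓ W) W := by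
      refine ⟨inf_le_right, fun q hq hd => hH.2.1 q hq (hd.trans (card_dvd_of_le inf_le_left)),
        fun q hq hqπ hd => hMW q hq hqπ ?_⟩
      have hdd : M ⊔ (H ⊓ W) = W := by
        refine le_antisymm (sup_le le_sup_left inf_le_right) fun x hx => ?_
        obtain ⟨m, hm, h', hh', rfl⟩ := (mem_sup_of_le_normalizer
          ((hH.1.trans le_sup_left).trans hMn)).mp (hMH.symm ▸ hWK hx : x ∈ M ⊔ H)
        exact mul_mem_sup hm ⟨hh', (W.mul_mem_cancel_left (mem_sup_left hm)).mp hx⟩
      have hinf : M ⊓ (H ⊓ W) = ⊥ := inf_eq_bot_of_coprime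
        (Nat.coprime_of_dvd fun q hq hd hd' =>
          hMW q hq (hH.2.1 q hq (hd'.trans (card_dvd_of_le inf_le_left))) hd)
      have h := card_mul_relIndex_of_le (inf_le_right : H ⊓ W ≤ W)
      have hc2 := card_sup_eq_mul (N := M) (A := H ⊓ W)
        ((inf_le_left.trans (hH.1.trans le_sup_left)).trans hMn) hinf
      rw [hdd, mul_comm] at hc2
      rw [hc2] at h
      rwa [Nat.eq_of_mul_eq_mul_left Nat.card_pos h] at hd
    obtain ⟨c, hc, hcU⟩ := exists_centralizer_conj_hall hAW
      (hcop.coprime_dvd_right (card_dvd_of_le hWK)) (isSolvable_of_le hWK hK) hHW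
      (le_normalizer_inf hHA hAW) hUW hUA
    refine ⟨MulAut.conj c • H, isPiHallOf_conj hH (Subgroup.le_normalizer (hWK hc.1)), ?_, ?_⟩
    · intro a ha
      apply mem_normalizer_of_conj_smul_eq
      rw [← conj_mul_smul, mem_centralizer_iff.mp hc.2 a ha, conj_mul_smul,
        conj_smul_eq_self_of_mem_normalizer (hHA ha)]
    · rw [← hcU]
      exact Subgroup.pointwise_smul_le_pointwise_smul_iff.mpr inf_le_left

/-- An invariant `π`-subgroup lies in an invariant Hall `π`-subgroup. -/
theorem exists_le_invariant_hall {A K U : Subgroup G} (hAK : A ≤ normalizer (K : Set G))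
    (hcop : (Nat.card A).Coprime (Nat.card K)) (hK : Group.IsSolvable K) {π : Set ℕ} (hUK : U ≤ K)
    (hUA : A ≤ normalizer (U : Set G)) (hU : ∀ p : ℕ, p.Prime → p ∣ Nat.card U → p ∈ π) :
    ∃ H : Subgroup G, IsPiHallOf π H K ∧ A ≤ normalizer (H : Set G) ∧ U ≤ H :=
  le_invariant_hall_aux _ G A K U rfl hAK hcop hK π hUK hUA hU

end Cfsg.Agent.Coprime
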