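import Cfsg.Agent.Coprime.Generation
import Cfsg.Agent.Coprime.Hall
import Cfsg.Prelude.Def_Transfer

/-!
Coprime action of an elementary abelian group: helpers, fixed points of products, and the fixed
points of invariant Sylow subgroups.
-/

set_option autoImplicit false

open Subgroup
open scoped Pointwise commutatorElement

namespace Cfsg.Agent.Coprime

universe u

variable {G : Type u} [Group G] {p : ℕ} {A : Subgroup G}

theorem ea_isPGroup (hA : Cfsg.IsElementaryAbelian p A) : IsPGroup p A :=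
  fun a => ⟨1, Subtype.ext (by simpa using hA.2 a a.2)⟩

theorem ea_comm (hA : Cfsg.IsElementaryAbelian p A) {a b : G} (ha : a ∈ A) (hb : b ∈ A) :
    a * b = b * a :=
  congrArg Subtype.val (hA.1.is_comm.comm (⟨a, ha⟩ : A) ⟨b, hb⟩)

theorem ea_mono {B : Subgroup G} (hA : Cfsg.IsElementaryAbelian p A) (h : B ≤ A) :
    Cfsg.IsElementaryAbelian p B :=
  ⟨⟨⟨fun x y => Subtype.ext (ea_comm hA (h x.2) (h y.2))⟩⟩, fun b hb => hA.2 b (h hb)⟩

theorem ea_le_centralizer (hA : Cfsg.IsElementaryAbelian p A) :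
    A ≤ centralizer (A : Set G) :=
  fun _ ha => mem_centralizer_iff.mpr fun _ hb => ea_comm hA hb ha

theorem ea_le_centralizer_singleton (hA : Cfsg.IsElementaryAbelian p A) {a : G} (ha : a ∈ A) :
    A ≤ centralizer {a} :=
  fun _ hb => mem_centralizer_singleton_iff.mpr (ea_comm hA hb ha)

theorem ea_isSolvable (hA : Cfsg.IsElementaryAbelian p A) : Group.IsSolvable A :=
  Group.isSolvable_of_comm fun x y => hA.1.is_comm.comm x y

theorem ea_card [Finite G] [Fact p.Prime] (hA : Cfsg.IsElementaryAbelian p A) :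
    ∃ n : ℕ, Nat.card A = p ^ n :=
  IsPGroup.iff_card.mp (ea_isPGroup hA)

theorem ea_coprime [Finite G] [Fact p.Prime] (hA : Cfsg.IsElementaryAbelian p A) {K : Subgroup G}
    (hK : ¬ p ∣ Nat.card K) : (Nat.card A).Coprime (Nat.card K) := by
  obtain ⟨n, hn⟩ := ea_card hA
  rw [hn]
  exact Nat.Coprime.pow_left n ((Fact.out : p.Prime).coprime_iff_not_dvd.mpr hK)

theorem ea_orderOf [Fact p.Prime] (hA : Cfsg.IsElementaryAbelian p A) {a : G} (ha : a ∈ A)
    (ha1 : a ≠ 1) : orderOf a = p :=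
  orderOf_eq_prime (hA.2 a ha) ha1

theorem ea_not_isCyclic [Finite G] [Fact p.Prime] (hA : Cfsg.IsElementaryAbelian p A)
    (h : p ^ 2 ≤ Nat.card A) : ¬ IsCyclic A := by
  intro hc
  obtain ⟨g, hg⟩ := hc.exists_generator
  have h1 : Nat.card A ≤ p := by
    rw [← orderOf_eq_card_of_forall_mem_zpowers hg]
    exact orderOf_le_of_pow_eq_one (Fact.out : p.Prime).pos (Subtype.ext (by simpa using hA.2 g g.2))
  have := (Fact.out : p.Prime).two_le
  nlinarith

theorem ea_ne_bot [Fact p.Prime] {n : ℕ} (hn : n ≠ 0) (h : p ^ n ≤ Nat.card A) : A ≠ ⊥ := by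
  intro hb
  rw [hb, Subgroup.card_bot] at h
  exact absurd h (Nat.not_le.mpr (Nat.one_lt_pow hn (Fact.out : p.Prime).one_lt))

/-- A cocyclic subgroup of an elementary abelian group has index at most `p`. -/
theorem ea_relIndex_le [Finite G] [Fact p.Prime] (hA : Cfsg.IsElementaryAbelian p A) {B : Subgroup G}
    (hB : B ∈ Cocyclic A) : B.relIndex A ≤ p := by
  obtain ⟨hBA, a, ha, hBa⟩ := hB
  have hnorm : zpowers a ≤ normalizer (B : Set G) := by
    rw [zpowers_le]
    exact centralizer_le_normalizer _ (mem_centralizer_iff.mpr fun y hy => ea_comm hA (hBA hy) ha)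
  have hz : Nat.card (zpowers a) ≤ p := by
    rw [Nat.card_zpowers]
    exact orderOf_le_of_pow_eq_one (Fact.out : p.Prime).pos (hA.2 a ha)
  have hle : Nat.card A ≤ Nat.card B * p := by
    refine le_trans ?_ (Nat.mul_le_mul_left _ hz)
    rw [← hBa, ← Nat.card_prod]
    refine Nat.card_le_card_of_surjective
      (fun q : B × zpowers a => (⟨(q.1 : G) * q.2, mul_mem_sup q.1.2 q.2.2⟩ :
        (B ⊔ zpowers a : Subgroup G))) fun x => ?_
    obtain ⟨b, hb, c, hc, h⟩ := (mem_sup_of_le_normalizer hnorm).mp x.2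
    exact ⟨(⟨b, hb⟩, ⟨c, hc⟩), Subtype.ext h⟩
  rw [← card_mul_relIndex_of_le hBA] at hle
  exact Nat.le_of_mul_le_mul_left hle Nat.card_pos

/-- An elementary abelian group has subgroups of every order dividing its order. -/
theorem ea_exists_le_card [Finite G] [Fact p.Prime] {n : ℕ} (h : p ^ n ≤ Nat.card A)
    (hA : Cfsg.IsElementaryAbelian p A) : ∃ B : Subgroup G, B ≤ A ∧ Nat.card B = p ^ n := by
  obtain ⟨m, hm⟩ := ea_card hA
  rw [hm] at h
  have hdvd : p ^ n ∣ Nat.card A := hm ▸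
    pow_dvd_pow p ((Nat.pow_le_pow_iff_right (Fact.out : p.Prime).one_lt).mp h)
  obtain ⟨B, hB⟩ := Sylow.exists_subgroup_card_pow_prime p hdvd
  exact ⟨B.map A.subtype, map_subtype_le _, by rw [card_map_of_injective A.subtype_injective, hB]⟩

/-- An elementary abelian group has a hyperplane inside every cocyclic subgroup. -/
theorem ea_exists_hyperplane_le [Finite G] [Fact p.Prime] (hA : Cfsg.IsElementaryAbelian p A)
    (hA1 : A ≠ ⊥) {B : Subgroup G} (hB : B ∈ Cocyclic A) :
    ∃ D : Subgroup G, D ≤ B ∧ D.relIndex A = p := by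
  have hp : p.Prime := Fact.out
  obtain ⟨m, hm⟩ := ea_card hA
  have hmul := card_mul_relIndex_of_le hB.1
  obtain ⟨i, hi, hidx⟩ := (Nat.dvd_prime_pow hp).mp (hm ▸ hmul ▸ dvd_mul_left (B.relIndex A) _)
  have hi1 : i ≤ 1 := by
    have := ea_relIndex_le hA hB
    rw [hidx] at this
    exact (Nat.pow_le_pow_iff_right hp.one_lt).mp (by rwa [pow_one])
  rcases Nat.le_one_iff_eq_zero_or_eq_one.mp hi1 with rfl | rfl
  · have hm1 : m ≠ 0 := by
      rintro rfl
      exact hA1 (Subgroup.card_eq_one.mp (by rw [hm, pow_zero]))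
    obtain ⟨D, hDA, hD⟩ := ea_exists_le_card (A := A) (n := m - 1)
      (hm ▸ Nat.pow_le_pow_right hp.pos (Nat.sub_le m 1)) hA
    have hBA : B = A := le_antisymm hB.1 (relIndex_eq_one.mp (by rw [hidx, pow_zero]))
    refine ⟨D, hBA ▸ hDA, ?_⟩
    have h2 := card_mul_relIndex_of_le hDA
    rw [hD, hm, ← Nat.succ_pred_eq_of_ne_zero hm1, Nat.pred_eq_sub_one, pow_succ] at h2
    exact Nat.eq_of_mul_eq_mul_left (Nat.pow_pos hp.pos) h2
  · exact ⟨B, le_rfl, by rw [hidx, pow_one]⟩

/-- `K` is generated by the fixed points of the elements of `A#`, for `A` elementary of rank at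
least two. -/
theorem ea_le_of_centralizers_le [Finite G] [Fact p.Prime] (hA : Cfsg.IsElementaryAbelian p A)
    (hA2 : p ^ 2 ≤ Nat.card A) {K W : Subgroup G} (hK : ¬ p ∣ Nat.card K)
    (hAK : A ≤ normalizer (K : Set G))
    (h : ∀ a ∈ A, a ≠ 1 → K ⊓ centralizer {a} ≤ W) : K ≤ W := by
  have := hA.1
  rw [← iSup_centralizer_eq (ea_not_isCyclic hA hA2) hAK (ea_coprime hA hK)]
  exact iSup₂_le fun a ha => h a ha.1 ha.2

/-- A fixed element of `X Y` is a product of fixed elements. -/
theorem exists_fixed_mul [Finite G] {A X Y : Subgroup G} (hA : Group.IsSolvable A)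
    (hAX : A ≤ normalizer (X : Set G)) (hAY : A ≤ normalizer (Y : Set G))
    (hcop : (Nat.card A).Coprime (Nat.card (X ⊓ Y : Subgroup G))) {x y : G} (hx : x ∈ X) (hy : y ∈ Y)
    (hxy : x * y ∈ centralizer (A : Set G)) :
    ∃ x' ∈ X ⊓ centralizer (A : Set G), ∃ y' ∈ Y ⊓ centralizer (A : Set G), x' * y' = x * y := by
  have hk : ∀ a ∈ A, x⁻¹ * (a * x * a⁻¹) ∈ X ⊓ Y := by
    intro a ha
    have h1 : a * x * a⁻¹ ∈ X := (mem_normalizer_iff.mp (hAX ha) x).mp hx
    refine ⟨X.mul_mem (X.inv_mem hx) h1, ?_⟩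
    have h2 : a * y * a⁻¹ ∈ Y := (mem_normalizer_iff.mp (hAY ha) y).mp hy
    have e : a * x * a⁻¹ * (a * y * a⁻¹) = x * y := by
      have := mem_centralizer_iff.mp hxy a ha
      calc a * x * a⁻¹ * (a * y * a⁻¹) = a * (x * y) * a⁻¹ := by simp [mul_assoc]
        _ = x * y := by rw [this]; simp [mul_assoc]
    have e' : x⁻¹ * (a * x * a⁻¹) = y * (a * y * a⁻¹)⁻¹ := by
      rw [inv_mul_eq_iff_eq_mul, ← mul_assoc, eq_mul_inv_iff_mul_eq, e]
    rw [e']
    exact Y.mul_mem hy (Y.inv_mem h2)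
  obtain ⟨n, hn, hc⟩ := exists_fixed_mem_leftCoset (A := A) (N := X ⊓ Y) (le_normalizer_inf hAX hAY)
    hcop (Or.inl hA) (k := x) hk
  refine ⟨x * n, ⟨X.mul_mem hx hn.1, hc⟩, n⁻¹ * y, ⟨Y.mul_mem (Y.inv_mem hn.2) hy, ?_⟩,
    by simp [mul_assoc]⟩
  have : (x * n)⁻¹ * (x * y) ∈ centralizer (A : Set G) := Subgroup.mul_mem _ (inv_mem hc) hxy
  simpa [mul_assoc] using this

/-- Fixed points of `X Y` for `Y` normalising `X`. -/
theorem sup_inf_centralizer [Finite G] {A X Y : Subgroup G} (hA : Group.IsSolvable A)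
    (hAX : A ≤ normalizer (X : Set G)) (hAY : A ≤ normalizer (Y : Set G))
    (hYX : Y ≤ normalizer (X : Set G))
    (hcop : (Nat.card A).Coprime (Nat.card (X ⊓ Y : Subgroup G))) :
    (X ⊔ Y) ⊓ centralizer (A : Set G) = (X ⊓ centralizer (A : Set G)) ⊔ (Y ⊓ centralizer (A : Set G)) := by
  refine le_antisymm ?_ (sup_le (inf_le_inf_right _ le_sup_left) (inf_le_inf_right _ le_sup_right))
  rintro z ⟨hz, hzc⟩
  obtain ⟨x, hx, y, hy, rfl⟩ := (mem_sup_of_le_normalizer hYX).mp hz
  obtain ⟨x', hx', y', hy', e⟩ := exists_fixed_mul hA hAX hAY hcop hx hy hzc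
  rw [← e]
  exact mul_mem_sup hx' hy'

/-- The fixed points of an invariant Sylow subgroup form a Sylow subgroup of the fixed points. -/
theorem exists_sylow_centralizer_eq [Finite G] {A K : Subgroup G}
    (hAK : A ≤ normalizer (K : Set G)) (hcop : (Nat.card A).Coprime (Nat.card K))
    (hsolv : Group.IsSolvable A ∨ Group.IsSolvable K) {r : ℕ} [Fact r.Prime] (P : Sylow r K)
    (hP : A ≤ normalizer ((P : Subgroup K).map K.subtype : Set G)) :
    ∃ S : Sylow r (K ⊓ centralizer (A : Set G) : Subgroup G),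
      (S : Subgroup (K ⊓ centralizer (A : Set G) : Subgroup G)).map
        (K ⊓ centralizer (A : Set G)).subtype
      = (P : Subgroup K).map K.subtype ⊓ centralizer (A : Set G) := by
  set C : Subgroup G := K ⊓ centralizer (A : Set G) with hC
  set R : Subgroup G := (P : Subgroup K).map K.subtype ⊓ centralizer (A : Set G) with hR
  have hRC : R ≤ C := inf_le_inf_right _ (map_subtype_le _)
  have hRp : IsPGroup r R := (P.2.map _).to_le inf_le_left
  obtain ⟨S, hS⟩ := (IsPGroup.of_equiv hRp (subgroupOfEquivOfLe hRC).symm).exists_le_sylow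
  refine ⟨S, le_antisymm ?_ ?_⟩
  · -- a larger subgroup is normalised by `A`, so is conjugate into `P` by a fixed element
    set U : Subgroup G := (S : Subgroup C).map C.subtype with hU
    have hUC : U ≤ C := map_subtype_le _
    have hUK : U ≤ K := hUC.trans inf_le_left
    have hUA : A ≤ normalizer (U : Set G) := fun a ha => centralizer_le_normalizer _
      (mem_centralizer_iff.mpr fun u hu => (mem_centralizer_iff.mp (hUC hu).2 a ha).symm)
    obtain ⟨Q, hUQ, hQA⟩ := exists_le_invariant_sylow hAK hcop hsolv hUK (S.2.map _) hUA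
    obtain ⟨c, hc, hcQ⟩ := exists_centralizer_conj_sylow hAK hcop hsolv P Q hP hQA
    have hconj : MulAut.conj (c : G) • (P : Subgroup K).map K.subtype =
        (Q : Subgroup K).map K.subtype := by
      rw [← conj_smul_map_subtype, ← hcQ, Sylow.pointwise_smul_def]
    have hle : U ≤ MulAut.conj (c : G) • R := by
      intro u hu
      rw [mem_conj_smul]
      refine ⟨mem_conj_smul.mp (hconj ▸ hUQ hu), ?_⟩
      exact Subgroup.mul_mem _ (Subgroup.mul_mem _ (inv_mem hc) (hUC hu).2) hc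
    have h2 : R ≤ U := by
      have := map_mono (f := C.subtype) hS
      rwa [map_subgroupOf_eq_of_le hRC] at this
    have hcard : Nat.card U ≤ Nat.card R := by
      calc Nat.card U ≤ Nat.card (MulAut.conj (c : G) • R : Subgroup G) :=
            Nat.le_of_dvd Nat.card_pos (card_dvd_of_le hle)
        _ = Nat.card R := card_conj_smul _ _
    exact (eq_of_le_of_card_ge h2 hcard).ge
  · have := map_mono (f := C.subtype) hS
    rwa [map_subgroupOf_eq_of_le hRC] at this

theorem card_sylow_map [Finite G] {K : Subgroup G} {r : ℕ} [Fact r.Prime] (P : Sylow r K) :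
    Nat.card ((P : Subgroup K).map K.subtype) = r ^ (Nat.card K).factorization r := by
  rw [card_map_of_injective K.subtype_injective, P.card_eq_multiplicity]

theorem card_sylow_inf_centralizer [Finite G] {A K : Subgroup G}
    (hAK : A ≤ normalizer (K : Set G)) (hcop : (Nat.card A).Coprime (Nat.card K))
    (hsolv : Group.IsSolvable A ∨ Group.IsSolvable K) {r : ℕ} [Fact r.Prime] (P : Sylow r K)
    (hP : A ≤ normalizer ((P : Subgroup K).map K.subtype : Set G)) :
    Nat.card ((P : Subgroup K).map K.subtype ⊓ centralizer (A : Set G) : Subgroup G) =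
      r ^ (Nat.card (K ⊓ centralizer (A : Set G) : Subgroup G)).factorization r := by
  obtain ⟨S, hS⟩ := exists_sylow_centralizer_eq hAK hcop hsolv P hP
  rw [← hS, card_sylow_map]

end Cfsg.Agent.Coprime
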