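import Cfsg.Agent.Layer.PConstraint
import Cfsg.Agent.Coprime.Elementary

/-!
`O_{p',p}` is characteristic, and a coprime-action criterion for lying in `O_{p'}`.
-/

set_option autoImplicit false

open Subgroup Cfsg
open scoped Pointwise commutatorElement

namespace Cfsg.Agent.Coprime

universe u

variable {G : Type u} [Group G] [Finite G] {q : ℕ} [Fact q.Prime]

theorem pPrimePCore_characteristic : (pPrimePCore q G).Characteristic := by
  rw [characteristic_iff_map_le]
  intro φ
  have hN : (pPrimeCore q G).map (φ : G →* G) = pPrimeCore q G :=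
    characteristic_iff_map_eq.mp inferInstance φ
  rintro _ ⟨x, hx, rfl⟩
  change QuotientGroup.mk' (pPrimeCore q G) (φ x) ∈ pCore q _
  rw [← Core.map_pCore (p := q) (QuotientGroup.congr _ _ φ hN)]
  exact ⟨_, hx, rfl⟩

theorem le_normalizer_map_of_characteristic {A K : Subgroup G} (hAK : A ≤ normalizer (K : Set G))
    (C : Subgroup K) (hC : C.Characteristic) : A ≤ normalizer (C.map K.subtype : Set G) := by
  intro a ha
  apply mem_normalizer_of_conj_smul_eq
  have h : C.map (K.normalizerMonoidHom ⟨a, hAK ha⟩).toMonoidHom = C :=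
    characteristic_iff_map_eq.mp hC _
  conv_rhs => rw [← h]
  rw [conj_smul_eq_map, Subgroup.map_map, Subgroup.map_map]
  congr 1

/-- If `U` commutes with `P` modulo `N = O_{q'}(K)` for a Sylow `q`-subgroup `P` of `O_{q',q}(K)`,
`K` is `q`-constrained and `U` is a `q'`-group, then `U` lies in `O_{q'}(K)`. -/
theorem le_pPrimeCore_of_commutator_le [Group.IsSolvable G] (P : Sylow q (pPrimePCore q G))
    {U : Subgroup G} (hU : ¬ q ∣ Nat.card U)
    (h : ∀ u ∈ U, ∀ x ∈ (P : Subgroup (pPrimePCore q G)).map (pPrimePCore q G).subtype,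
      ⁅u, x⁆ ∈ pPrimeCore q G) :
    U ≤ pPrimeCore q G := by
  let f := QuotientGroup.mk' (pPrimeCore q G)
  -- `P` covers `O_q` of the quotient
  have hcover : (((P : Subgroup (pPrimePCore q G)).map (pPrimePCore q G).subtype).map f) = pCore q (G ⧸ pPrimeCore q G) := by
    let g : pPrimePCore q G →* pCore q (G ⧸ pPrimeCore q G) :=
      (f.comp (pPrimePCore q G).subtype).codRestrict _ fun x => x.2
    have hg : Function.Surjective g := by
      rintro ⟨y, hy⟩
      obtain ⟨x, rfl⟩ := QuotientGroup.mk'_surjective _ y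
      exact ⟨⟨x, hy⟩, rfl⟩
    have htop : ((P.mapSurjective hg : Sylow q _) : Subgroup (pCore q (G ⧸ pPrimeCore q G))) = ⊤ := by
      have hp : IsPGroup q (pCore q (G ⧸ pPrimeCore q G)) := Core.pCore_isPGroup
      exact ((P.mapSurjective hg).3 (hp.to_subgroup ⊤) le_top).symm
    rw [Sylow.coe_mapSurjective] at htop
    have := congrArg (Subgroup.map (pCore q (G ⧸ pPrimeCore q G)).subtype) htop
    rw [← MonoidHom.range_eq_map, range_subtype, Subgroup.map_map] at this
    rw [Subgroup.map_map]
    exact this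
  have hsc : Layer.PCoreSelfCentral q (G ⧸ pPrimeCore q G) := by
    have := Core.centralizer_fittingSubgroup_le (G := G ⧸ pPrimeCore q G)
    rwa [Layer.fitting_eq_pCore_of_pPrimeCore_eq_bot Core.pPrimeCore_quotient_eq_bot] at this
  have hle : U.map f ≤ pCore q (G ⧸ pPrimeCore q G) := by
    refine le_trans ?_ hsc
    rintro _ ⟨u, hu, rfl⟩
    rw [mem_centralizer_iff]
    intro y hy
    rw [SetLike.mem_coe, ← hcover] at hy
    obtain ⟨x, hx, rfl⟩ := hy
    have h1 : f ⁅u, x⁆ = 1 := (QuotientGroup.eq_one_iff _).mpr (h u hu x hx)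
    rw [map_commutatorElement, commutatorElement_eq_one_iff_mul_comm] at h1
    exact h1.symm
  have hbot : U.map f = ⊥ := by
    obtain ⟨n, hn⟩ := IsPGroup.iff_card.mp ((Core.pCore_isPGroup (p := q)).to_le hle)
    have h1 : Nat.card (U.map f) ∣ Nat.card U := Subgroup.card_map_dvd _ _
    rcases Nat.eq_zero_or_pos n with rfl | hn0
    · exact Subgroup.card_eq_one.mp (by rw [hn, pow_zero])
    · exact absurd ((dvd_pow_self q hn0.ne').trans (hn ▸ h1)) hU
  rw [Subgroup.map_eq_bot_iff, QuotientGroup.ker_mk'] at hbot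
  exact hbot

end Cfsg.Agent.Coprime
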