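import Cfsg.Agent.Coprime.Action
import Cfsg.Agent.Fusion.PGroup
import Cfsg.Agent.Fusion.Critical
import Cfsg.Agent.Core.Frattini

/-!
Fixed points of a coprime action with `[G, A] = G` lie in the derived subgroup.
-/

set_option autoImplicit false

open Subgroup
open scoped Pointwise commutatorElement

namespace Cfsg.Agent.Coprime

universe u v

/-- If `G = [G, A]` then `C_G(A) ≤ G'`. -/
theorem fixedSubgroup_le_commutator {A : Type v} [Group A] [Finite A] {G : Type u} [Group G]
    (φ : A →* MulAut G) (hcop : (Nat.card A).Coprime (Nat.card G))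
    (hGA : actCommutator φ = ⊤) : fixedSubgroup φ ≤ commutator G := by
  classical
  have := Fintype.ofFinite A
  let N : G →* Abelianization G :=
    { toFun := fun g => ∏ a : A, Abelianization.of (φ a g)
      map_one' := by simp
      map_mul' := fun x y => by simp [Finset.prod_mul_distrib] }
  have hinv : ∀ (b : A) (g : G), N (φ b g) = N g := by
    intro b g
    refine Fintype.prod_equiv (Equiv.mulRight b) _ _ fun a => ?_
    change Abelianization.of (φ a (φ b g)) = Abelianization.of (φ (a * b) g)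
    rw [map_mul]
    rfl
  have hker : N.ker = ⊤ := by
    rw [eq_top_iff, ← hGA, actCommutator, closure_le]
    rintro _ ⟨a, g, rfl⟩
    rw [SetLike.mem_coe, MonoidHom.mem_ker, map_mul, map_inv, hinv, inv_mul_cancel]
  intro x hx
  have h1 : N x = 1 := MonoidHom.mem_ker.mp (hker ▸ mem_top x)
  have h2 : (Abelianization.of x) ^ Nat.card A = 1 := by
    rw [← h1]
    change _ = ∏ a : A, Abelianization.of (φ a x)
    rw [Finset.prod_congr rfl (fun a _ => by rw [hx a]), Finset.prod_const, Finset.card_univ,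
      Nat.card_eq_fintype_card]
  rw [← Abelianization.ker_of, MonoidHom.mem_ker, ← orderOf_eq_one_iff]
  refine Nat.dvd_one.mp (hcop.gcd_eq_one ▸ Nat.dvd_gcd (orderOf_dvd_of_pow_eq_one h2)
    ((orderOf_map_dvd _ x).trans (_root_.orderOf_dvd_natCard x)))

/-- If `P = [P, A]` then `C_P(A) ≤ P'`. -/
theorem inf_centralizer_le_derived {X : Type u} [Group X] [Finite X] {A P : Subgroup X}
    (hAP : A ≤ normalizer (P : Set X)) (hcop : (Nat.card A).Coprime (Nat.card P))
    (hPA : ⁅P, A⁆ = P) : P ⊓ centralizer (A : Set X) ≤ ⁅P, P⁆ := by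
  let φ : A →* MulAut P := P.normalizerMonoidHom.comp (inclusion hAP)
  have hφ : ∀ (a : A) (g : P), ((φ a g : P) : X) = (a : X) * g * (a : X)⁻¹ := fun a g => rfl
  have htop : actCommutator φ = ⊤ := by
    apply map_injective P.subtype_injective
    rw [← MonoidHom.range_eq_map, range_subtype]
    refine le_antisymm (map_subtype_le _) ?_
    conv_lhs => rw [← hPA]
    rw [commutator_le]
    intro g hg a ha
    refine ⟨(⟨g, hg⟩ : P) * φ ⟨a, ha⟩ (⟨g, hg⟩ : P)⁻¹,
      subset_closure ⟨⟨a, ha⟩, (⟨g, hg⟩ : P)⁻¹, by rw [inv_inv]⟩, ?_⟩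
    rw [map_mul]
    change g * ((φ ⟨a, ha⟩ (⟨g, hg⟩ : P)⁻¹ : P) : X) = _
    rw [hφ, commutatorElement_def, Subgroup.coe_inv]
    simp only [mul_assoc]
  rintro x ⟨hx, hxA⟩
  have hfix : (⟨x, hx⟩ : P) ∈ fixedSubgroup φ := fun a => Subtype.ext (by
    rw [hφ, mem_centralizer_iff.mp hxA a a.2, mul_inv_cancel_right])
  rw [← map_subtype_commutator]
  exact mem_map_of_mem P.subtype (fixedSubgroup_le_commutator φ hcop htop hfix)

end Cfsg.Agent.Coprime
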