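import Cfsg.Agent.Coprime.Basic

/-!
Abstract coprime actions `φ : A →* MulAut G`, through the semidirect product.
-/

set_option autoImplicit false

open Subgroup SemidirectProduct
open scoped Pointwise commutatorElement

namespace Cfsg.Agent.Coprime

universe u v

variable {A : Type v} [Group A] {G : Type u} [Group G] (φ : A →* MulAut G)

/-- The copy of `G` in `G ⋊ A`. -/
abbrev inG : Subgroup (G ⋊[φ] A) := (inl : G →* G ⋊[φ] A).range

/-- The copy of `A` in `G ⋊ A`. -/
abbrev inA : Subgroup (G ⋊[φ] A) := (inr : A →* G ⋊[φ] A).range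

/-- The fixed points of an action. -/
def fixedSubgroup : Subgroup G where
  carrier := {g | ∀ a, φ a g = g}
  one_mem' a := map_one _
  mul_mem' {x y} hx hy a := by rw [map_mul, hx a, hy a]
  inv_mem' {x} hx a := by rw [map_inv, hx a]

/-- The subgroup `[G, A]` of an action. -/
def actCommutator : Subgroup G := closure {y : G | ∃ (a : A) (g : G), y = g⁻¹ * φ a g}

theorem mem_fixedSubgroup {g : G} : g ∈ fixedSubgroup φ ↔ ∀ a, φ a g = g := Iff.rfl

theorem finite_semidirect [Finite A] [Finite G] : Finite (G ⋊[φ] A) :=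
  Finite.of_equiv _ (SemidirectProduct.equivProd (φ := φ)).symm

theorem inG_normal : (inG φ).Normal := by
  rw [inG, range_inl_eq_ker_rightHom]
  infer_instance

theorem inA_le_normalizer_inG : inA φ ≤ normalizer (inG φ : Set (G ⋊[φ] A)) := by
  have := inG_normal φ
  exact le_normalizer_of_normal

theorem card_inG : Nat.card (inG φ) = Nat.card G :=
  (Nat.card_congr (MonoidHom.ofInjective (inl_injective (φ := φ))).toEquiv).symm

theorem card_inA : Nat.card (inA φ) = Nat.card A :=
  (Nat.card_congr (MonoidHom.ofInjective (inr_injective (φ := φ))).toEquiv).symm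

theorem coprime_inA_inG (h : (Nat.card A).Coprime (Nat.card G)) :
    (Nat.card (inA φ)).Coprime (Nat.card (inG φ)) := by
  rwa [card_inA, card_inG]

theorem isSolvable_inA_or_inG (h : Group.IsSolvable A ∨ Group.IsSolvable G) :
    Group.IsSolvable (inA φ) ∨ Group.IsSolvable (inG φ) := by
  rcases h with h | h
  · exact Or.inl (Group.isSolvable_of_surjective (f := (inr : A →* G ⋊[φ] A).rangeRestrict)
      (MonoidHom.rangeRestrict_surjective _))
  · exact Or.inr (Group.isSolvable_of_surjective (f := (inl : G →* G ⋊[φ] A).rangeRestrict)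
      (MonoidHom.rangeRestrict_surjective _))

theorem inr_conj_inl (a : A) (g : G) :
    (inr a * inl g * (inr a)⁻¹ : G ⋊[φ] A) = inl (φ a g) := by
  rw [← map_inv, inl_aut]

theorem inl_mem_centralizer {g : G} :
    (inl g : G ⋊[φ] A) ∈ centralizer (inA φ : Set (G ⋊[φ] A)) ↔ g ∈ fixedSubgroup φ := by
  rw [mem_centralizer_iff, mem_fixedSubgroup]
  constructor
  · intro h a
    apply inl_injective (φ := φ)
    rw [← inr_conj_inl, h (inr a) ⟨a, rfl⟩, mul_inv_cancel_right]
  · rintro h _ ⟨a, rfl⟩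
    have := inr_conj_inl φ a g
    rw [h a] at this
    exact mul_inv_eq_iff_eq_mul.mp this

theorem map_inl_fixedSubgroup :
    (fixedSubgroup φ).map inl = inG φ ⊓ centralizer (inA φ : Set (G ⋊[φ] A)) := by
  ext x
  constructor
  · rintro ⟨g, hg, rfl⟩
    exact ⟨⟨g, rfl⟩, (inl_mem_centralizer φ).mpr hg⟩
  · rintro ⟨⟨g, rfl⟩, hg⟩
    exact ⟨g, (inl_mem_centralizer φ).mp hg, rfl⟩

theorem inA_le_normalizer_map_iff {H : Subgroup G} :
    inA φ ≤ normalizer ((H.map inl : Subgroup (G ⋊[φ] A)) : Set (G ⋊[φ] A)) ↔ ∀ a, ∀ h ∈ H, φ a h ∈ H := by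
  constructor
  · intro hn a h hh
    have := (mem_normalizer_iff.mp (hn ⟨a, rfl⟩) (inl h)).mp (mem_map_of_mem _ hh)
    rw [inr_conj_inl] at this
    exact (mem_map_iff_mem (inl_injective (φ := φ))).mp this
  · rintro hinv _ ⟨a, rfl⟩
    have key : ∀ (b : A) (x : G ⋊[φ] A), x ∈ H.map inl → inr b * x * (inr b)⁻¹ ∈ H.map inl := by
      rintro b _ ⟨h, hh, rfl⟩
      exact ⟨φ b h, hinv b h hh, (inr_conj_inl φ b h).symm⟩
    rw [mem_normalizer_iff]
    refine fun x => ⟨key a x, fun hx => ?_⟩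
    have := key a⁻¹ _ hx
    rwa [map_inv, inv_inv, ← mul_assoc, inv_mul_cancel_left, inv_mul_cancel_right] at this

theorem map_inl_actCommutator :
    (actCommutator φ).map inl = ⁅inG φ, inA φ⁆ := by
  refine le_antisymm ?_ ?_
  · rw [actCommutator, MonoidHom.map_closure, closure_le]
    rintro _ ⟨_, ⟨a, g, rfl⟩, rfl⟩
    have := commutator_mem_commutator (show (inl g⁻¹ : G ⋊[φ] A) ∈ inG φ from ⟨_, rfl⟩)
      (show (inr a : G ⋊[φ] A) ∈ inA φ from ⟨_, rfl⟩)
    rw [commutatorElement_def, map_inv, inv_inv] at this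
    rw [SetLike.mem_coe, map_mul, map_inv, ← inr_conj_inl φ a g]
    simpa only [mul_assoc] using this
  · rw [commutator_le]
    rintro _ ⟨g, rfl⟩ _ ⟨a, rfl⟩
    refine ⟨g * φ a g⁻¹, subset_closure ⟨a, g⁻¹, by rw [inv_inv]⟩, ?_⟩
    rw [map_mul, ← inr_conj_inl φ a g⁻¹, commutatorElement_def, map_inv]
    simp only [mul_assoc]

theorem apply_mem_actCommutator (a : A) {x : G} (hx : x ∈ actCommutator φ) :
    φ a x ∈ actCommutator φ := by
  have : actCommutator φ ≤ (actCommutator φ).comap (φ a).toMonoidHom := by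
    conv_lhs => rw [actCommutator]
    rw [closure_le]
    rintro _ ⟨b, g, rfl⟩
    refine subset_closure ⟨a * b * a⁻¹, φ a g, ?_⟩
    change φ a (g⁻¹ * φ b g) = _
    rw [map_mul, map_inv, map_mul, map_mul, MulAut.mul_apply, MulAut.mul_apply, map_inv,
      MulAut.inv_apply_self]
  exact this hx

theorem actCommutator_normal : (actCommutator φ).Normal := by
  refine ⟨fun x hx g => ?_⟩
  have : actCommutator φ ≤ (actCommutator φ).comap (MulAut.conj g).toMonoidHom := by
    conv_lhs => rw [actCommutator]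
    rw [closure_le]
    rintro _ ⟨b, h, rfl⟩
    have h1 : (h * g⁻¹)⁻¹ * φ b (h * g⁻¹) ∈ actCommutator φ := subset_closure ⟨b, _, rfl⟩
    have h2 : (g⁻¹)⁻¹ * φ b g⁻¹ ∈ actCommutator φ := subset_closure ⟨b, _, rfl⟩
    have h3 := mul_mem h1 (inv_mem h2)
    change g * (h⁻¹ * φ b h) * g⁻¹ ∈ actCommutator φ
    simpa [mul_assoc] using h3
  exact this hx

variable [Finite A] [Finite G]

theorem exists_invariant_sylow_act (hcop : (Nat.card A).Coprime (Nat.card G))
    (hsolv : Group.IsSolvable A ∨ Group.IsSolvable G) (p : ℕ) [Fact p.Prime] :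
    ∃ P : Sylow p G, ∀ a, ∀ x ∈ (P : Subgroup G), φ a x ∈ (P : Subgroup G) := by
  have := finite_semidirect φ
  obtain ⟨Q, hQ⟩ := exists_invariant_sylow (inA_le_normalizer_inG φ) (coprime_inA_inG φ hcop)
    (isSolvable_inA_or_inG φ hsolv) p
  let e : G ≃* inG φ := MonoidHom.ofInjective inl_injective
  refine ⟨Q.mapSurjective (f := e.symm.toMonoidHom) e.symm.surjective, ?_⟩
  refine (inA_le_normalizer_map_iff φ).mp ?_
  have hmap : ((Q.mapSurjective (f := e.symm.toMonoidHom) e.symm.surjective : Sylow p G) :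
      Subgroup G).map inl = (Q : Subgroup (inG φ)).map (inG φ).subtype := by
    change ((Q : Subgroup (inG φ)).map e.symm.toMonoidHom).map inl = _
    rw [Subgroup.map_map]
    congr 1
    refine MonoidHom.ext fun x => ?_
    obtain ⟨g, rfl⟩ := e.surjective x
    change inl (e.symm (e g)) = ((e g : inG φ) : G ⋊[φ] A)
    rw [MulEquiv.symm_apply_apply]
    rfl
  rw [hmap]
  exact hQ

/-- `[G, A] C_G(A) = G`. -/
theorem actCommutator_sup_fixed (hcop : (Nat.card A).Coprime (Nat.card G))
    (hsolv : Group.IsSolvable A ∨ Group.IsSolvable G) :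
    actCommutator φ ⊔ fixedSubgroup φ = ⊤ := by
  have := finite_semidirect φ
  apply map_injective (inl_injective (φ := φ))
  rw [Subgroup.map_sup, map_inl_actCommutator, map_inl_fixedSubgroup,
    commutator_sup_centralizer (inA_le_normalizer_inG φ) (coprime_inA_inG φ hcop)
      (isSolvable_inA_or_inG φ hsolv), ← MonoidHom.range_eq_map]

/-- For abelian `[G, A]`, `[G, A]` meets the fixed points trivially. -/
theorem actCommutator_inf_fixed_eq_bot (hcop : (Nat.card A).Coprime (Nat.card G))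
    (hsolv : Group.IsSolvable A ∨ Group.IsSolvable G)
    (hab : IsMulCommutative (actCommutator φ)) :
    actCommutator φ ⊓ fixedSubgroup φ = ⊥ := by
  have := finite_semidirect φ
  apply map_injective (inl_injective (φ := φ))
  rw [map_inf _ _ _ (inl_injective (φ := φ)), map_inl_actCommutator, map_inl_fixedSubgroup,
    Subgroup.map_bot]
  have hle : ⁅inG φ, inA φ⁆ ≤ inG φ := commutator_le_of_le_normalizer (inA_le_normalizer_inG φ)
  have habM : IsMulCommutative (⁅inG φ, inA φ⁆ : Subgroup (G ⋊[φ] A)) := by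
    rw [← map_inl_actCommutator]
    refine ⟨⟨?_⟩⟩
    rintro ⟨_, x, hx, rfl⟩ ⟨_, y, hy, rfl⟩
    apply Subtype.ext
    change (inl x * inl y : G ⋊[φ] A) = inl y * inl x
    rw [← map_mul, ← map_mul]
    exact congrArg inl (congrArg Subtype.val (hab.is_comm.comm (⟨x, hx⟩ : actCommutator φ) ⟨y, hy⟩))
  have h := centralizer_inf_commutator_eq_bot (A := inA φ) (V := ⁅inG φ, inA φ⁆)
    (normalizer_commutator_ge_right _ _)
    ((coprime_inA_inG φ hcop).coprime_dvd_right (card_dvd_of_le hle))
  rw [commutator_commutator_eq (inA_le_normalizer_inG φ) (coprime_inA_inG φ hcop)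
    (isSolvable_inA_or_inG φ hsolv)] at h
  rw [eq_bot_iff]
  rintro x ⟨hx, hxC⟩
  exact h.le ⟨⟨hx, hxC.2⟩, hx⟩

end Cfsg.Agent.Coprime
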