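import Cfsg.Agent.Coprime.Hall

/-!
Coprime automorphisms stabilising a series.
-/

set_option autoImplicit false

open Subgroup
open scoped Pointwise commutatorElement

namespace Cfsg.Agent.Coprime

universe u

variable {G : Type u} [Group G] [Finite G]

/-- A coprime `A` centralising the factors of an invariant series of `H` centralises `H`. -/
theorem le_centralizer_of_series {A H : Subgroup G} (hcop : (Nat.card A).Coprime (Nat.card H))
    (hA : Group.IsSolvable A) {n : ℕ} (c : Fin (n + 1) → Subgroup G) (hc0 : c 0 = H)
    (hcn : c (Fin.last n) = ⊥) (hanti : Antitone c)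
    (hcA : ∀ i, A ≤ normalizer ((c i : Subgroup G) : Set G))
    (htriv : ∀ i : Fin n, ⁅c i.castSucc, A⁆ ≤ c i.succ) :
    A ≤ centralizer (H : Set G) := by
  suffices h : ∀ i, c i ≤ centralizer (A : Set G) by
    rw [Subgroup.le_centralizer_iff, ← hc0]
    exact h 0
  intro i
  induction i using Fin.reverseInduction with
  | last => rw [hcn]; exact bot_le
  | cast i ih =>
    intro k hk
    have hle : c i.succ ≤ H := hc0 ▸ hanti (Fin.zero_le _)
    obtain ⟨n, hn, hc⟩ := exists_fixed_mem_leftCoset (N := c i.succ) (hcA _)
      (hcop.coprime_dvd_right (card_dvd_of_le hle)) (Or.inl hA) (k := k) (fun a ha => by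
        have := htriv i (commutator_mem_commutator (inv_mem hk) ha)
        rw [commutatorElement_def, inv_inv] at this
        simpa [mul_assoc] using this)
    simpa using Subgroup.mul_mem _ hc (inv_mem (ih hn))

/-- A prime dividing `|A : D|` is the order prime of an element of `A` outside `D`. -/
theorem exists_pElement_not_mem {A D : Subgroup G} {p : ℕ} [Fact p.Prime]
    (h : p ∣ D.relIndex A) : ∃ x ∈ A, x ∉ D ∧ IsPGroup p (zpowers x) := by
  obtain ⟨P⟩ : Nonempty (Sylow p A) := inferInstance
  by_contra hno
  push Not at hno
  have hPD : (P : Subgroup A) ≤ D.subgroupOf A := by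
    intro x hx
    rw [mem_subgroupOf]
    by_contra hxD
    refine hno x x.2 hxD ?_
    have := (P.2.map A.subtype).to_le (zpowers_le.mpr (mem_map_of_mem A.subtype hx))
    exact this
  have h2 : (D.subgroupOf A).index ∣ (P : Subgroup A).index := index_dvd_of_le hPD
  exact P.not_dvd_index (h.trans h2)

end Cfsg.Agent.Coprime
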