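import Cfsg.Agent.Fusion.PGroup
import Mathlib.GroupTheory.PGroup

/-!
The Baer trick: a group of class two and exponent `p`, `p` odd, carries an abelian group structure
preserved by all its automorphisms; hence for a `p`-group `P` and a `p'`-group `Q` acting on it,
some element is fixed by `P` and moved by `Q`.
-/

set_option autoImplicit false

open Subgroup
open scoped commutatorElement

namespace Cfsg.Agent.Coprime

universe u

/-- The Baer abelianization of a group of class two and exponent `p` (a type synonym). -/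
structure BaerAdd (G : Type u) where
  /-- The underlying element. -/
  val : G

variable {G : Type u} [Group G] {p : ℕ}

/-- The commutative group structure `x ∘ y = x y [y, x]^k`, where `2 k ≡ 1`. -/
@[reducible] def baerCommGroup [Finite G] (k : ℕ) (h : commutator G ≤ center G)
    (hk : ∀ x y : G, ⁅x, y⁆ ^ k * ⁅x, y⁆ ^ k = ⁅x, y⁆) : CommGroup (BaerAdd G) where
  one := ⟨1⟩
  mul x y := ⟨x.val * y.val * ⁅y.val, x.val⁆ ^ k⟩
  inv x := ⟨x.val⁻¹⟩
  one_mul x := by
    show BaerAdd.mk (1 * x.val * ⁅x.val, 1⁆ ^ k) = x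
    simp
  mul_one x := by
    show BaerAdd.mk (x.val * 1 * ⁅1, x.val⁆ ^ k) = x
    simp
  inv_mul_cancel x := by
    show BaerAdd.mk _ = BaerAdd.mk _
    congr 1
    rw [commutatorElement_eq_one_iff_mul_comm.mpr (show x.val * x.val⁻¹ = x.val⁻¹ * x.val by simp)]
    simp
  mul_comm x y := by
    show BaerAdd.mk _ = BaerAdd.mk _
    congr 1
    have hc : ∀ a b : G, ⁅a, b⁆ ∈ center G := fun a b =>
      h (commutator_mem_commutator (mem_top a) (mem_top b))
    have h1 : x.val * y.val = y.val * x.val * ⁅x.val, y.val⁆ := by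
      rw [mem_center_iff.mp (hc _ _) (y.val * x.val), commutatorElement_def]
      simp [mul_assoc]
    rw [h1, ← commutatorElement_inv x.val y.val, inv_pow, mul_assoc]
    congr 1
    rw [mul_inv_eq_iff_eq_mul, hk]
  mul_assoc x y z := by
    show BaerAdd.mk _ = BaerAdd.mk _
    congr 1
    have hc : ∀ a b : G, ⁅a, b⁆ ^ k ∈ center G := fun a b =>
      (center G).pow_mem (h (commutator_mem_commutator (mem_top a) (mem_top b))) k
    have hcm : ∀ (a : G) {c : G}, c ∈ center G → ⁅a, c⁆ = 1 := fun a c hc =>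
      commutatorElement_eq_one_iff_mul_comm.mpr (mem_center_iff.mp hc a)
    have hcm' : ∀ (a : G) {c : G}, c ∈ center G → ⁅c, a⁆ = 1 := fun a c hc =>
      commutatorElement_eq_one_iff_mul_comm.mpr (mem_center_iff.mp hc a).symm
    change x.val * y.val * ⁅y.val, x.val⁆ ^ k * z.val *
        ⁅z.val, x.val * y.val * ⁅y.val, x.val⁆ ^ k⁆ ^ k =
      x.val * (y.val * z.val * ⁅z.val, y.val⁆ ^ k) *
        ⁅y.val * z.val * ⁅z.val, y.val⁆ ^ k, x.val⁆ ^ k
    rw [Fusion.commutatorElement_mul_right_of_le_center h,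
      Fusion.commutatorElement_mul_right_of_le_center h, hcm z.val (hc _ _), mul_one,
      Fusion.commutatorElement_mul_left_of_le_center h,
      Fusion.commutatorElement_mul_left_of_le_center h, hcm' x.val (hc _ _), mul_one]
    have ha : ∀ (a b : G), (⁅a, b⁆ : G) ∈ center G := fun a b =>
      h (commutator_mem_commutator (mem_top a) (mem_top b))
    rw [((show Commute ⁅z.val, x.val⁆ ⁅z.val, y.val⁆ from
        (mem_center_iff.mp (ha _ _) _))).mul_pow,
      ((show Commute ⁅y.val, x.val⁆ ⁅z.val, x.val⁆ from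
        (mem_center_iff.mp (ha _ _) _))).mul_pow]
    generalize h1 : ⁅y.val, x.val⁆ ^ k = a
    generalize h2 : ⁅z.val, x.val⁆ ^ k = b
    generalize h3 : ⁅z.val, y.val⁆ ^ k = c
    have ca : ∀ g, g * a = a * g := fun g => h1 ▸ mem_center_iff.mp (hc _ _) g
    have cb : ∀ g, g * b = b * g := fun g => h2 ▸ mem_center_iff.mp (hc _ _) g
    calc x.val * y.val * a * z.val * (b * c) = x.val * y.val * (a * z.val) * (b * c) := by group
      _ = x.val * y.val * (z.val * a) * (b * c) := by rw [ca z.val]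
      _ = x.val * (y.val * z.val) * (a * b * c) := by group
      _ = x.val * (y.val * z.val) * (c * (a * b)) := by
        rw [(mem_center_iff.mp (h3 ▸ hc z.val y.val : c ∈ center G) (a * b))]
      _ = x.val * (y.val * z.val * c) * (a * b) := by group

/-- Some element fixed by the `p`-group `P` is moved by the `p'`-group `Q`. -/
theorem exists_fixed_not_centralized {X : Type u} [Group X] [Finite X] [hp : Fact p.Prime]
    (hp2 : p ≠ 2) {P Q V : Subgroup X} (hP : IsPGroup p P) (hQ : (Nat.card Q).Coprime p)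
    (hPQ : P ≤ normalizer (Q : Set X)) (hPV : P ≤ normalizer (V : Set X))
    (hQV : Q ≤ normalizer (V : Set X)) (hV : IsPGroup p V) (hclass : commutator V ≤ center V)
    (hexp : ∀ v : V, v ^ p = 1) (hne : ¬ Q ≤ centralizer (V : Set X)) :
    ∃ v ∈ V, v ∈ centralizer (P : Set X) ∧ v ∉ centralizer (Q : Set X) := by
  classical
  have hk : ∀ x y : V, ⁅x, y⁆ ^ ((p + 1) / 2) * ⁅x, y⁆ ^ ((p + 1) / 2) = ⁅x, y⁆ := by
    intro x y
    obtain ⟨j, hj⟩ := hp.out.odd_of_ne_two hp2
    rw [← pow_add, show (p + 1) / 2 + (p + 1) / 2 = p + 1 by omega, pow_succ, hexp, one_mul]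
  letI : CommGroup (BaerAdd V) := baerCommGroup ((p + 1) / 2) hclass hk
  let e : BaerAdd V ≃ V := ⟨fun b => b.val, BaerAdd.mk, fun _ => rfl, fun _ => rfl⟩
  haveI : Finite (BaerAdd V) := Finite.of_equiv _ e.symm
  haveI : Fintype Q := Fintype.ofFinite _
  let θ : normalizer (V : Set X) →* MulAut V := V.normalizerMonoidHom
  have hθ : ∀ (g : normalizer (V : Set X)) (v : V), ((θ g v : V) : X) = g * v * (g : X)⁻¹ :=
    fun g v => rfl
  let L : normalizer (V : Set X) → (BaerAdd V →* BaerAdd V) := fun g =>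
    { toFun := fun b => ⟨θ g b.val⟩
      map_one' := by
        show BaerAdd.mk (θ g 1) = BaerAdd.mk 1
        rw [map_one]
      map_mul' := fun a b => by
        show BaerAdd.mk (θ g (a.val * b.val * ⁅b.val, a.val⁆ ^ ((p + 1) / 2))) = BaerAdd.mk _
        congr 1
        rw [map_mul, map_mul, map_pow, map_commutatorElement] }
  have hLapp : ∀ g b, (L g b).val = θ g b.val := fun g b => rfl
  have hLmul : ∀ g h b, L g (L h b) = L (g * h) b := fun g h b => by
    show BaerAdd.mk _ = BaerAdd.mk _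
    congr 1
    rw [hLapp, map_mul]
    rfl
  let π : BaerAdd V →* BaerAdd V := ∏ q : Q, L ⟨q, hQV q.2⟩
  have hπ : ∀ b, π b = ∏ q : Q, L ⟨q, hQV q.2⟩ b := fun b => by
    simp [π, MonoidHom.finsetProd_apply]
  have hπQ : ∀ (r : Q) b, L ⟨r, hQV r.2⟩ (π b) = π b := by
    intro r b
    rw [hπ, map_prod]
    refine Fintype.prod_equiv (Equiv.mulLeft r) _ _ fun q => ?_
    rw [hLmul]
    rfl
  have hπP : ∀ (a : P) b, L ⟨a, hPV a.2⟩ (π b) = π (L ⟨a, hPV a.2⟩ b) := by
    intro a b
    rw [hπ, hπ, map_prod]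
    let cj : Q ≃ Q := (Q.normalizerMonoidHom ⟨a, hPQ a.2⟩).toEquiv
    refine Fintype.prod_equiv cj _ _ fun q => ?_
    rw [hLmul, hLmul]
    refine congrArg (fun g => L g b) (Subtype.ext ?_)
    show (a : X) * q = (a : X) * q * (a : X)⁻¹ * a
    simp [mul_assoc]
  have hninj : π.ker ≠ ⊥ := fun h => hne fun q hq => by
    rw [mem_centralizer_iff]
    intro v hv
    obtain ⟨b, hb⟩ := Finite.surjective_of_injective ((MonoidHom.ker_eq_bot_iff π).mp h) ⟨⟨v, hv⟩⟩
    have h1 := congrArg (fun c : BaerAdd V => ((c.val : V) : X)) (hπQ ⟨q, hq⟩ b)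
    simp only [hb, hLapp, hθ] at h1
    exact (mul_inv_eq_iff_eq_mul.mp h1).symm
  -- `P` acts on the kernel
  have hker : ∀ (a : P) b, b ∈ π.ker → L ⟨a, hPV a.2⟩ b ∈ π.ker := fun a b hb => by
    rw [MonoidHom.mem_ker, ← hπP, MonoidHom.mem_ker.mp hb, map_one]
  letI : MulAction P π.ker :=
    { smul := fun a b => ⟨L ⟨a, hPV a.2⟩ b, hker a b b.2⟩
      one_smul := fun b => Subtype.ext (show L 1 (b : BaerAdd V) = b by
        show BaerAdd.mk _ = _
        rw [map_one]
        rfl)
      mul_smul := fun a c b => Subtype.ext (hLmul ⟨a, hPV a.2⟩ ⟨c, hPV c.2⟩ b).symm }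
  have hdvd : p ∣ Nat.card π.ker := by
    obtain ⟨n, hn⟩ := IsPGroup.iff_card.mp hV
    have h1 : Nat.card π.ker ∣ p ^ n := by
      rw [← hn, ← Nat.card_congr e]
      exact Subgroup.card_subgroup_dvd_card _
    obtain ⟨m, -, hm⟩ := (Nat.dvd_prime_pow hp.out).mp h1
    rw [hm]
    exact dvd_pow_self p fun h0 => hninj (Subgroup.card_eq_one.mp (by rw [hm, h0, pow_zero]))
  obtain ⟨b, hbfix, hb1⟩ := hP.exists_fixed_point_of_prime_dvd_card_of_fixed_point π.ker hdvd
    (a := 1) (fun a => Subtype.ext (map_one (L ⟨a, hPV a.2⟩)))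
  refine ⟨((b : BaerAdd V).val : X), (b : BaerAdd V).val.2, ?_, fun hC => ?_⟩
  · rw [mem_centralizer_iff]
    intro a ha
    exact mul_inv_eq_iff_eq_mul.mp
      (congrArg (fun c : π.ker => (((c : BaerAdd V).val : V) : X)) (hbfix ⟨a, ha⟩))
  · have hfix : ∀ q : Q, L ⟨q, hQV q.2⟩ (b : BaerAdd V) = b := fun q => by
      show BaerAdd.mk _ = _
      refine congrArg BaerAdd.mk (Subtype.ext ?_)
      rw [hθ]
      exact mul_inv_eq_iff_eq_mul.mpr (mem_centralizer_iff.mp hC q q.2)
    have h1 : π (b : BaerAdd V) = (b : BaerAdd V) ^ Nat.card Q := by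
      rw [hπ, Finset.prod_congr rfl (fun q _ => hfix q),
        Finset.prod_const, Finset.card_univ, Nat.card_eq_fintype_card]
    have h2 : (b : BaerAdd V) ^ Nat.card Q = 1 := by rw [← h1]; exact b.2
    have hcop : (Nat.card Q).Coprime (Nat.card (BaerAdd V)) := by
      obtain ⟨n, hn⟩ := IsPGroup.iff_card.mp hV
      rw [Nat.card_congr e, hn]
      exact hQ.pow_right n
    refine hb1 (Subtype.ext ((powCoprime hcop.symm).injective ?_))
    show (1 : BaerAdd V) ^ Nat.card Q = (b : BaerAdd V) ^ Nat.card Q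
    rw [h2, one_pow]

end Cfsg.Agent.Coprime
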