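import Mathlib
import Cfsg.Agent.Coprime.Generation
import Cfsg.Agent.MaxClass.Metacyclic
import Cfsg.Agent.Core.Basics
import Cfsg.Agent.Fusion.PGroup
import Cfsg.Agent.Camina.OrderBoundNoncentral
import Cfsg.Prelude.Def_Transfer

/-!
# Noncyclic odd groups acting on a 2-group with at most one involution fixed by each element

The 2-group is a central product of quaternion groups of order 8.
-/

set_option autoImplicit false

namespace Cfsg.Agent.SmallFixed

open Subgroup
open scoped commutatorElement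

universe u

theorem quaternion_two_facts : (∀ x y : QuaternionGroup 2, ⁅x, y⁆ = 1 ∨ ⁅x, y⁆ = QuaternionGroup.a 2) ∧
    (∀ x : QuaternionGroup 2, x * x = 1 ∨ x * x = QuaternionGroup.a 2) ∧
    (∀ x : QuaternionGroup 2, (∀ y, x * y = y * x) → x * x = 1) ∧
    (∀ x : QuaternionGroup 2, x * x ≠ 1 → ∀ y v, (y ≠ 1 ∧ y ≠ x ∧ y ≠ x * x ∧ y ≠ x * (x * x)) →
      (v ≠ 1 ∧ v ≠ x ∧ v ≠ x * x ∧ v ≠ x * (x * x)) →
        v = y ∨ v = y * x ∨ v = y * (x * x) ∨ v = y * (x * (x * x))) := by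
  refine ⟨?_, ?_, ?_, ?_⟩ <;> decide

variable {F : Type u} [Group F] [Finite F]

/-- A 2-group with one involution and a non-trivial automorphism of odd order is quaternion of
order 8. -/
theorem quaternion_of_aut (hF : IsPGroup 2 F) (huniq : ∀ u v : F, orderOf u = 2 → orderOf v = 2 → u = v)
    (α : MulAut F) (hα : α ≠ 1) (hodd : Odd (orderOf α)) : Nonempty (F ≃* QuaternionGroup 2) := by
  haveI : Fact (Nat.Prime 2) := ⟨Nat.prime_two⟩
  have hm : Cfsg.IsMetacyclic F := by
    rcases Fusion.cyclic_or_quaternion hF huniq with h | ⟨k, hk, ⟨e⟩⟩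
    · exact ⟨⊤, inferInstance, inferInstance,
        isCyclic_of_surjective (QuotientGroup.mk' ⊤) (QuotientGroup.mk'_surjective ⊤)⟩
    · haveI : NeZero (2 ^ k) := ⟨pow_ne_zero _ two_ne_zero⟩
      set N := zpowers (e.symm (QuaternionGroup.a 1)) with hN
      have hi : N.index = 2 := by
        have h1 := N.card_mul_index
        rw [Nat.card_zpowers, e.symm.orderOf_eq, QuaternionGroup.orderOf_a_one,
          Nat.card_congr e.toEquiv, Nat.card_eq_fintype_card, QuaternionGroup.card] at h1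
        have := pow_pos (two_pos (α := ℕ)) k
        nlinarith
      have hNn := normal_of_index_eq_two hi
      refine ⟨N, hNn, inferInstance, isCyclic_of_prime_card (p := 2) ?_⟩
      rw [← index_eq_card, hi]
  rcases MaxClass.metacyclic_odd_aut hF hm α hα hodd with h | ⟨n, ⟨e⟩⟩
  · exact h
  · exfalso
    rcases Nat.eq_zero_or_pos n with rfl | hn
    · haveI : Subsingleton (ZMod (2 ^ 0)) := (inferInstance : Subsingleton (ZMod 1))
      haveI : Subsingleton F := e.toEquiv.subsingleton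
      exact hα (MulEquiv.ext fun x => Subsingleton.elim _ _)
    · obtain ⟨m, rfl⟩ : ∃ m, n = m + 1 := ⟨n - 1, by omega⟩
      have ho : orderOf (Multiplicative.ofAdd ((2 : ZMod (2 ^ (m + 1))) ^ m)) = 2 := by
        rw [orderOf_ofAdd_eq_addOrderOf, show ((2 : ZMod (2 ^ (m + 1))) ^ m) = ((2 ^ m : ℕ) : ZMod (2 ^ (m + 1))) by
          push_cast; rfl, ZMod.addOrderOf_coe _ (pow_ne_zero _ two_ne_zero),
          Nat.gcd_eq_right (pow_dvd_pow 2 (Nat.le_succ m)), pow_succ, Nat.mul_div_cancel_left _ (Nat.two_pow_pos m)]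
      set w := Multiplicative.ofAdd ((2 : ZMod (2 ^ (m + 1))) ^ m)
      have h1 : orderOf (e.symm (w, 1)) = 2 := by
        rw [e.symm.orderOf_eq, Prod.orderOf_mk, orderOf_one, Nat.lcm_one_right, ho]
      have h2 : orderOf (e.symm (1, w)) = 2 := by
        rw [e.symm.orderOf_eq, Prod.orderOf_mk, orderOf_one, Nat.lcm_one_left, ho]
      have h3 := congrArg Prod.fst (e.symm.injective (huniq _ _ h1 h2))
      simp only at h3
      rw [h3, orderOf_one] at ho
      omega

/-- The facts used about a quaternion group of order 8 with involution `z`. -/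
structure QuatEight (F : Type u) [Group F] (z : F) : Prop where
  card : Nat.card F = 8
  comm : ∀ x y : F, ⁅x, y⁆ = 1 ∨ ⁅x, y⁆ = z
  square : ∀ x : F, x * x = 1 ∨ x * x = z
  invol : ∀ x : F, x * x = 1 → x = 1 ∨ x = z
  central : ∀ x : F, (∀ y, x * y = y * x) → x = 1 ∨ x = z
  pairs : ∀ x : F, x * x ≠ 1 → ∀ y v, (y ≠ 1 ∧ y ≠ x ∧ y ≠ x * x ∧ y ≠ x * (x * x)) →
      (v ≠ 1 ∧ v ≠ x ∧ v ≠ x * x ∧ v ≠ x * (x * x)) →
        v = y ∨ v = y * x ∨ v = y * (x * x) ∨ v = y * (x * (x * x))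

theorem quatEight (hF : IsPGroup 2 F) {z : F} (hz : z * z = 1) (hz1 : z ≠ 1)
    (hinv : ∀ x : F, x * x = 1 → x = 1 ∨ x = z) {p : ℕ} (hp : p.Prime) (hp2 : p ≠ 2) (α : MulAut F)
    (hαp : α ^ p = 1) (hα : α ≠ 1) : QuatEight F z := by
  have ho : orderOf α = p := orderOf_eq_prime hαp hα (hp := ⟨hp⟩)
  have huniq : ∀ u v : F, orderOf u = 2 → orderOf v = 2 → u = v := fun u v hu hv => by
    have key : ∀ u : F, orderOf u = 2 → u = z := fun u hu => by
      refine (hinv u ?_).resolve_left fun e => ?_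
      · rw [← pow_two, ← hu, pow_orderOf_eq_one]
      · rw [e, orderOf_one] at hu; omega
    rw [key u hu, key v hv]
  obtain ⟨e⟩ := quaternion_of_aut hF huniq α hα (ho ▸ hp.odd_of_ne_two hp2)
  obtain ⟨q1, q2, q3, q4⟩ := quaternion_two_facts
  have hz' : e z = QuaternionGroup.a 2 := by
    rcases q2 (e z) with h | h
    · have key : ∀ w : QuaternionGroup 2, w * w = 1 → w = 1 ∨ w = QuaternionGroup.a 2 := by decide
      exact (key _ h).resolve_left fun h' => hz1 (e.injective (h'.trans (map_one e).symm))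
    · rw [← map_mul, hz, map_one] at h
      exact absurd h (by decide)
  refine ⟨?_, fun x y => ?_, fun x => ?_, hinv, fun x hx => hinv x ?_, fun x hx y v hy hv => ?_⟩
  · rw [Nat.card_congr e.toEquiv, Nat.card_eq_fintype_card, QuaternionGroup.card]
  · rcases q1 (e x) (e y) with h | h <;> rw [← map_commutatorElement] at h
    · exact Or.inl (e.injective (h.trans (map_one e).symm))
    · exact Or.inr (e.injective (h.trans hz'.symm))
  · rcases q2 (e x) with h | h <;> rw [← map_mul] at h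
    · exact Or.inl (e.injective (h.trans (map_one e).symm))
    · exact Or.inr (e.injective (h.trans hz'.symm))
  · have h1 := q3 (e x) fun w => by
      obtain ⟨w, rfl⟩ := e.surjective w
      rw [← map_mul, hx, map_mul]
    rw [← map_mul] at h1
    exact e.injective (h1.trans (map_one e).symm)
  · have h1 := q4 (e x) (by rw [← map_mul, ← map_one e]; exact fun h => hx (e.injective h)) (e y) (e v)
      (by simp only [← map_mul, ← map_one e, ne_eq, e.injective.eq_iff]; exact hy)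
      (by simp only [← map_mul, ← map_one e, ne_eq, e.injective.eq_iff]; exact hv)
    simp only [← map_mul, e.injective.eq_iff] at h1
    exact h1

omit [Finite F] in
/-- An automorphism of odd prime order that fixes a non-central element is trivial. -/
theorem QuatEight.trivial_of_fixed {z : F} (h : QuatEight F z) {p : ℕ} (hp : p.Coprime 4)
    (α : MulAut F) (hαp : α ^ p = 1) {x : F} (hx : x * x ≠ 1) (hfix : α x = x) : α = 1 := by
  refine MulEquiv.ext fun y => ?_
  show α y = y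
  by_cases hy : y ≠ 1 ∧ y ≠ x ∧ y ≠ x * x ∧ y ≠ x * (x * x)
  · have hv : α y ≠ 1 ∧ α y ≠ x ∧ α y ≠ x * x ∧ α y ≠ x * (x * x) := by
      refine ⟨fun e => hy.1 ?_, fun e => hy.2.1 ?_, fun e => hy.2.2.1 ?_, fun e => hy.2.2.2 ?_⟩
      · exact α.injective (e.trans (map_one α).symm)
      · exact α.injective (e.trans hfix.symm)
      · exact α.injective (by rw [e, map_mul, hfix])
      · exact α.injective (by rw [e, map_mul, map_mul, hfix])
    obtain ⟨c, hc, hαy⟩ : ∃ c, α c = c ∧ α y = y * c := by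
      rcases h.pairs x hx y (α y) hy hv with e | e | e | e
      · exact ⟨1, map_one α, by rw [e, mul_one]⟩
      · exact ⟨x, hfix, e⟩
      · exact ⟨x * x, by rw [map_mul, hfix], e⟩
      · exact ⟨x * (x * x), by rw [map_mul, map_mul, hfix], e⟩
    have hit : ∀ n : ℕ, (α ^ n) y = y * c ^ n := by
      intro n
      induction n with
      | zero => simp
      | succ n ih =>
        rw [pow_succ', MulAut.mul_apply, ih, map_mul, map_pow, hc, hαy, mul_assoc, ← pow_succ']
    have h1 := hit p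
    rw [hαp, MulAut.one_apply, left_eq_mul] at h1
    have h4 : c ^ 4 = 1 := by
      rw [show (4 : ℕ) = 2 * 2 from rfl, pow_mul, pow_two, pow_two]
      rcases h.square c with e | e <;> rw [e]
      · exact one_mul 1
      · rcases h.square z with e' | e'
        · exact e'
        · have : z = 1 := by rwa [mul_eq_left] at e'
          rw [this, one_mul]
    have hc1 : orderOf c = 1 := by
      refine Nat.eq_one_of_dvd_coprimes hp
        (orderOf_dvd_of_pow_eq_one h1) (orderOf_dvd_of_pow_eq_one h4)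
    rw [hαy, orderOf_eq_one_iff.1 hc1, mul_one]
  · rw [not_and_or, not_and_or, not_and_or, not_not, not_not, not_not, not_not] at hy
    rcases hy with rfl | rfl | rfl | rfl
    · exact map_one α
    · exact hfix
    · rw [map_mul, hfix]
    · rw [map_mul, map_mul, hfix]

variable {Γ : Type u} [Group Γ] [Finite Γ]

/-- The hypotheses: `A` noncyclic abelian `p`-group normalising and faithful on the 2-group `W`;
each of its non-identity elements fixes at most one involution. -/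
structure Setup (p : ℕ) (W A : Subgroup Γ) : Prop where
  prime : p.Prime
  odd : p ≠ 2
  two : IsPGroup 2 W
  isPGroup : IsPGroup p A
  comm : ∀ a ∈ A, ∀ b ∈ A, Commute a b
  noncyclic : ¬ IsCyclic A
  norm : A ≤ normalizer (W : Set Γ)
  faithful : ∀ a ∈ A, (∀ w ∈ W, Commute a w) → a = 1
  fix : ∀ e ∈ A, e ≠ 1 → ∀ x ∈ W, ∀ y ∈ W, orderOf x = 2 → orderOf y = 2 →
    Commute x e → Commute y e → x = y

/-- The fixed points of `e`. -/
def fixd (W : Subgroup Γ) (e : Γ) : Subgroup Γ := W ⊓ centralizer {e}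

namespace Setup

variable {p : ℕ} {W A : Subgroup Γ}

omit [Finite Γ] in
theorem mem_fixd {e x : Γ} : x ∈ fixd W e ↔ x ∈ W ∧ Commute x e :=
  and_congr Iff.rfl mem_centralizer_singleton_iff

theorem conj_mem (h : Setup p W A) {a x : Γ} (ha : a ∈ A) (hx : x ∈ W) : a * x * a⁻¹ ∈ W :=
  (mem_normalizer_iff.1 (h.norm ha) x).1 hx

theorem conj_mem_fixd (h : Setup p W A) {a e x : Γ} (ha : a ∈ A) (he : e ∈ A) (hx : x ∈ fixd W e) :
    a * x * a⁻¹ ∈ fixd W e := by
  rw [mem_fixd] at hx ⊢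
  refine ⟨h.conj_mem ha hx.1, ?_⟩
  have h1 := (Commute.conj_iff (h := a)).2 hx.2
  rwa [(h.comm a ha e he).eq, mul_inv_cancel_right] at h1

theorem gen (h : Setup p W A) {K M : Subgroup Γ} (hKW : K ≤ W)
    (hAK : ∀ a ∈ A, ∀ x ∈ K, a * x * a⁻¹ ∈ K)
    (hM : ∀ e ∈ A, e ≠ 1 → K ⊓ fixd W e ≤ M) : K ≤ M := by
  haveI : Fact p.Prime := ⟨h.prime⟩
  haveI : IsMulCommutative A := ⟨⟨fun a b => Subtype.ext (h.comm a a.2 b b.2).eq⟩⟩
  have hn : A ≤ normalizer (K : Set Γ) := fun a ha => mem_normalizer_fintype fun x hx => hAK a ha x hx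
  obtain ⟨i, hi⟩ := IsPGroup.iff_card.1 h.isPGroup
  haveI : Fact (Nat.Prime 2) := ⟨Nat.prime_two⟩
  obtain ⟨j, hj⟩ := IsPGroup.iff_card.1 (h.two.to_le hKW)
  have hcop : (Nat.card A).Coprime (Nat.card K) := by
    rw [hi, hj]
    exact ((Nat.coprime_primes h.prime Nat.prime_two).2 h.odd).pow _ _
  rw [← Coprime.iSup_centralizer_eq h.noncyclic hn hcop]
  exact iSup₂_le fun e he => le_trans (le_inf inf_le_left (inf_le_inf_right _ hKW)) (hM e he.1 he.2)

/-- The central involution. -/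
theorem exists_z (h : Setup p W A) :
    ∃ z : Γ, z ∈ W ∧ z * z = 1 ∧ z ≠ 1 ∧ (∀ w ∈ W, Commute z w) ∧ (∀ a ∈ A, Commute z a) ∧
      ∀ e ∈ A, e ≠ 1 → ∀ x ∈ fixd W e, x * x = 1 → x = 1 ∨ x = z := by
  haveI : Fact (Nat.Prime 2) := ⟨Nat.prime_two⟩
  have hord : ∀ {x : Γ}, x * x = 1 → x ≠ 1 → orderOf x = 2 := fun {x} hx hx1 =>
    orderOf_eq_prime (by rw [pow_two, hx]) hx1
  obtain ⟨a0, ha0⟩ : ∃ a0 : Γ, a0 ∈ A ∧ a0 ≠ 1 := by
    by_contra! hall
    exact h.noncyclic (by
      haveI : Subsingleton A := ⟨fun a b => Subtype.ext ((hall a a.2).trans (hall b b.2).symm)⟩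
      exact isCyclic_of_subsingleton)
  have hW : Nontrivial W := by
    by_contra hn
    rw [not_nontrivial_iff_subsingleton] at hn
    refine ha0.2 (h.faithful a0 ha0.1 fun w hw => ?_)
    rw [show w = 1 from congrArg Subtype.val (Subsingleton.elim (⟨w, hw⟩ : W) 1)]
    exact Commute.one_right a0
  obtain ⟨c, hc⟩ : ∃ c : center W, orderOf c = 2 := by
    haveI := h.two.center_nontrivial
    obtain ⟨n, hn⟩ := IsPGroup.iff_card.1 (h.two.to_subgroup (center W))
    refine exists_prime_orderOf_dvd_card' 2 (hn ▸ dvd_pow_self 2 fun e => ?_)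
    rw [e, pow_zero, Subgroup.card_eq_one] at hn
    exact (nontrivial_iff_ne_bot _).1 inferInstance hn
  -- all central involutions are fixed
  let Z : Subgroup Γ :=
    { carrier := {x | x ∈ W ∧ x * x = 1 ∧ ∀ w ∈ W, Commute x w}
      one_mem' := ⟨one_mem W, one_mul 1, fun w _ => Commute.one_left w⟩
      mul_mem' := fun {x y} hx hy => ⟨mul_mem hx.1 hy.1, by
        rw [(hy.2.2 x hx.1).mul_mul_mul_comm, hx.2.1, hy.2.1, one_mul],
        fun w hw => (hx.2.2 w hw).mul_left (hy.2.2 w hw)⟩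
      inv_mem' := fun {x} hx => ⟨inv_mem hx.1, by rw [← mul_inv_rev, hx.2.1, inv_one],
        fun w hw => (hx.2.2 w hw).inv_left⟩ }
  have hfixed : ∀ e ∈ A, e ≠ 1 → ∀ x ∈ fixd W e, x * x = 1 → ∀ a ∈ A, Commute x a := by
    intro e he he1 x hx hx2 a ha
    by_cases hx1 : x = 1
    · rw [hx1]; exact Commute.one_left a
    have h2 := h.conj_mem_fixd ha he hx
    rw [mem_fixd] at hx h2
    have h3 := h.fix e he he1 x hx.1 _ h2.1 (hord hx2 hx1) (hord (by
      rw [show a * x * a⁻¹ * (a * x * a⁻¹) = a * (x * x) * a⁻¹ by group, hx2]; group)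
      (fun e => hx1 (conj_eq_one_iff.1 e))) hx.2 h2.2
    exact eq_mul_inv_iff_mul_eq.1 h3
  have hZ : Z ≤ W ⊓ centralizer (A : Set Γ) := h.gen (fun x hx => hx.1)
    (fun a ha x hx => ⟨h.conj_mem ha hx.1, by
        rw [show a * x * a⁻¹ * (a * x * a⁻¹) = a * (x * x) * a⁻¹ by group, hx.2.1]; group,
      fun w hw => by
        have h1 := hx.2.2 _ (h.conj_mem (inv_mem ha) hw)
        rw [inv_inv] at h1
        have h2 := (Commute.conj_iff (h := a)).2 h1
        rwa [show a * (a⁻¹ * w * a) * a⁻¹ = w by group] at h2⟩)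
    (fun e he he1 x hx => ⟨hx.1.1, mem_centralizer_iff.2 fun a ha =>
      (hfixed e he he1 x hx.2 hx.1.2.1 a ha).eq.symm⟩)
  have hc2 : ((c : W) : Γ) * (c : W) = 1 := by
    have h1 : c ^ 2 = 1 := hc ▸ pow_orderOf_eq_one c
    have h2 := congrArg (fun v : center W => ((v : W) : Γ)) h1
    simpa [pow_two] using h2
  have hc1 : ((c : W) : Γ) ≠ 1 := fun e => by
    rw [show c = 1 from Subtype.ext (Subtype.ext e), orderOf_one] at hc
    omega
  have hcen : ∀ w ∈ W, Commute ((c : W) : Γ) w := fun w hw =>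
    (congrArg Subtype.val (mem_center_iff.1 c.2 ⟨w, hw⟩)).symm
  have hcA : ∀ a ∈ A, Commute ((c : W) : Γ) a := fun a ha =>
    (mem_centralizer_iff.1 (hZ (show ((c : W) : Γ) ∈ Z from ⟨(c : W).2, hc2, hcen⟩)).2 a ha).symm
  refine ⟨(c : W), (c : W).2, hc2, hc1, hcen, hcA, fun e he he1 x hx hx2 => ?_⟩
  by_cases hx1 : x = 1
  · exact Or.inl hx1
  rw [mem_fixd] at hx
  exact Or.inr (h.fix e he he1 x hx.1 _ (c : W).2 (hord hx2 hx1) (hord hc2 hc1) hx.2 (hcA e he))

/-- Everything about the fixed-point subgroups, relative to the involution `z`. -/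
structure Data (p : ℕ) (W A : Subgroup Γ) (z : Γ) : Prop extends Setup p W A where
  mem : z ∈ W
  sq : z * z = 1
  ne_one : z ≠ 1
  central : ∀ w ∈ W, Commute z w
  fixed : ∀ a ∈ A, Commute z a
  unique : ∀ e ∈ A, e ≠ 1 → ∀ x ∈ fixd W e, x * x = 1 → x = 1 ∨ x = z

theorem Data.quat {z : Γ} (h : Data p W A z) {e a x : Γ} (he : e ∈ A) (he1 : e ≠ 1) (ha : a ∈ A)
    (hx : x ∈ fixd W e) (hax : ¬ Commute a x) :
    QuatEight (fixd W e) ⟨z, mem_fixd.2 ⟨h.mem, h.fixed e he⟩⟩ := by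
  haveI : Fact p.Prime := ⟨h.prime⟩
  obtain ⟨k, hk⟩ := IsPGroup.iff_orderOf.1 h.isPGroup ⟨a, ha⟩
  -- replace `a` by a power of prime order on `fixd W e`
  have hn : ∀ b ∈ A, b ∈ normalizer (fixd W e : Set Γ) := fun b hb =>
    mem_normalizer_fintype fun y hy => h.toSetup.conj_mem_fixd hb he hy
  set φ := (fixd W e).normalizerMonoidHom ⟨a, hn a ha⟩ with hφ
  have hφ1 : φ ≠ 1 := fun e1 => hax (by
    have h1 := congrArg (fun f : MulAut (fixd W e) => ((f ⟨x, hx⟩ : fixd W e) : Γ)) e1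
    exact mul_inv_eq_iff_eq_mul.1 h1)
  have hφp : φ ^ p ^ k = 1 := by
    have h1 : (⟨a, hn a ha⟩ : normalizer (fixd W e : Set Γ)) ^ p ^ k = 1 := by
      refine Subtype.ext ?_
      have h2 : (⟨a, ha⟩ : A) ^ p ^ k = 1 := hk ▸ pow_orderOf_eq_one _
      have h3 := congrArg Subtype.val h2
      simpa using h3
    rw [hφ, ← map_pow, h1, map_one]
  obtain ⟨j, -, hj⟩ := (Nat.dvd_prime_pow h.prime).1 (orderOf_dvd_of_pow_eq_one hφp)
  have hj0 : j ≠ 0 := fun e0 => hφ1 (orderOf_eq_one_iff.1 (by rw [hj, e0, pow_zero]))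
  have hψ : orderOf (φ ^ (orderOf φ / p)) = p :=
    orderOf_pow_orderOf_div (orderOf_pos φ).ne' (hj ▸ dvd_pow_self p hj0)
  refine quatEight (h.two.to_le inf_le_left) (Subtype.ext h.sq) (fun e1 => h.ne_one (congrArg Subtype.val e1))
    (fun y hy => (h.unique e he he1 y y.2 (congrArg Subtype.val hy)).imp Subtype.ext Subtype.ext)
    h.prime h.odd (φ ^ (orderOf φ / p)) ?_ fun e1 => ?_
  · conv_lhs => arg 2; rw [← hψ]
    exact pow_orderOf_eq_one _
  · exact h.prime.ne_one (hψ.symm.trans ((congrArg orderOf e1).trans orderOf_one))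

namespace Data

variable {z : Γ}

/-- The centraliser in `A` of the fixed points of `e`. -/
def kerA (W A : Subgroup Γ) (e : Γ) : Subgroup Γ := A ⊓ centralizer (fixd W e : Set Γ)

theorem centralizes_of_fixed (h : Data p W A z) {e a x : Γ} (he : e ∈ A) (he1 : e ≠ 1) (ha : a ∈ A)
    (hx : x ∈ fixd W e) (hx1 : x ≠ 1) (hxz : x ≠ z) (hax : Commute a x) :
    ∀ y ∈ fixd W e, Commute a y := by
  haveI : Fact p.Prime := ⟨h.prime⟩
  intro y hy
  by_contra hay
  have hq := h.quat he he1 ha hy hay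
  have hn : a ∈ normalizer (fixd W e : Set Γ) :=
    mem_normalizer_fintype fun y hy => h.toSetup.conj_mem_fixd ha he hy
  obtain ⟨k, hk⟩ := IsPGroup.iff_orderOf.1 h.isPGroup ⟨a, ha⟩
  have hφp : (fixd W e).normalizerMonoidHom ⟨a, hn⟩ ^ p ^ k = 1 := by
    have h1 : (⟨a, hn⟩ : normalizer (fixd W e : Set Γ)) ^ p ^ k = 1 := by
      refine Subtype.ext ?_
      have h2 : (⟨a, ha⟩ : A) ^ p ^ k = 1 := hk ▸ pow_orderOf_eq_one _
      have h3 := congrArg Subtype.val h2
      simpa using h3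
    rw [← map_pow, h1, map_one]
  have h1 := hq.trivial_of_fixed
    (((Nat.coprime_primes h.prime Nat.prime_two).2 h.odd).pow k 2) _ hφp (x := ⟨x, hx⟩)
    (fun e2 => ((h.unique e he he1 x hx (congrArg Subtype.val e2)).elim hx1 hxz))
    (Subtype.ext (show a * x * a⁻¹ = x by rw [hax.eq, mul_inv_cancel_right]))
  have h2 := congrArg (fun f : MulAut (fixd W e) => ((f ⟨y, hy⟩ : fixd W e) : Γ)) h1
  exact hay (mul_inv_eq_iff_eq_mul.1 h2)

theorem fixA (h : Data p W A z) {x : Γ} (hx : x ∈ W) (hxA : ∀ a ∈ A, Commute x a) : x = 1 ∨ x = z := by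
  by_contra! hne
  obtain ⟨a0, ha0, ha1⟩ : ∃ a0 ∈ A, a0 ≠ 1 := by
    by_contra! hall
    exact h.noncyclic (by
      haveI : Subsingleton A := ⟨fun a b => Subtype.ext ((hall a a.2).trans (hall b b.2).symm)⟩
      exact isCyclic_of_subsingleton)
  have hle : W ≤ centralizer (A : Set Γ) := h.toSetup.gen le_rfl (fun a ha => fun y hy => h.toSetup.conj_mem ha hy)
    (fun e he he1 y hy => mem_centralizer_iff.2 fun a ha =>
      (h.centralizes_of_fixed he he1 ha (mem_fixd.2 ⟨hx, hxA e he⟩) hne.1 hne.2 (hxA a ha).symm y hy.2).eq)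
  exact ha1 (h.faithful a0 ha0 fun w hw => mem_centralizer_iff.1 (hle hw) a0 ha0)

theorem moved (h : Data p W A z) {e x : Γ} (hx : x ∈ fixd W e) (hx1 : x ≠ 1) (hxz : x ≠ z) :
    ∃ a ∈ A, ¬ Commute a x := by
  by_contra! hall
  exact (h.fixA (mem_fixd.1 hx).1 fun a ha => (hall a ha).symm).elim hx1 hxz

theorem quat' (h : Data p W A z) {e x : Γ} (he : e ∈ A) (he1 : e ≠ 1) (hx : x ∈ fixd W e) (hx1 : x ≠ 1)
    (hxz : x ≠ z) : QuatEight (fixd W e) ⟨z, mem_fixd.2 ⟨h.mem, h.fixed e he⟩⟩ := by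
  obtain ⟨a, ha, hax⟩ := h.moved hx hx1 hxz
  exact h.quat he he1 ha hx hax

/-- `p = 3` and the kernel of the action on a large fixed-point subgroup has index 3. -/
theorem relIndex_kerA (h : Data p W A z) {e x : Γ} (he : e ∈ A) (he1 : e ≠ 1) (hx : x ∈ fixd W e)
    (hx1 : x ≠ 1) (hxz : x ≠ z) : p = 3 ∧ (kerA W A e).relIndex A = 3 := by
  classical
  haveI : Fact p.Prime := ⟨h.prime⟩
  have hq := h.quat' he he1 hx hx1 hxz
  set F := fixd W e
  have hn : ∀ b ∈ A, ∀ y ∈ F, b * y * b⁻¹ ∈ F := fun b hb y hy => h.toSetup.conj_mem_fixd hb he hy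
  let X := {y : F // (y : Γ) ≠ 1 ∧ (y : Γ) ≠ z}
  letI : MulAction A X :=
    { smul := fun a y => ⟨⟨(a : Γ) * y.1 * (a : Γ)⁻¹, hn a a.2 y.1 y.1.2⟩,
        fun e1 => y.2.1 (conj_eq_one_iff.1 e1), fun e1 => y.2.2 (by
          have h1 := mul_inv_eq_iff_eq_mul.1 e1
          rw [(h.fixed a a.2).eq] at h1
          exact mul_left_cancel h1)⟩
      one_smul := fun y => Subtype.ext (Subtype.ext (by
        show ((1 : A) : Γ) * y.1 * ((1 : A) : Γ)⁻¹ = y.1; simp))
      mul_smul := fun a b y => Subtype.ext (Subtype.ext (by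
        show ((a * b : A) : Γ) * y.1 * ((a * b : A) : Γ)⁻¹ = a * (b * y.1 * (b : Γ)⁻¹) * (a : Γ)⁻¹
        rw [Subgroup.coe_mul]; group)) }
  have hst : ∀ y : X, MulAction.stabilizer A y = (kerA W A e).subgroupOf A := by
    intro y
    ext a
    rw [MulAction.mem_stabilizer_iff, mem_subgroupOf]
    constructor
    · intro hay
      have h1 : (a : Γ) * y.1 * (a : Γ)⁻¹ = y.1 :=
        congrArg (fun v : X => ((v.1 : F) : Γ)) hay
      exact ⟨a.2, mem_centralizer_iff.2 fun v hv => (h.centralizes_of_fixed he he1 a.2 y.1.2 y.2.1 y.2.2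
        (mul_inv_eq_iff_eq_mul.1 h1) v hv).eq.symm⟩
    · intro hak
      refine Subtype.ext (Subtype.ext ?_)
      show (a : Γ) * y.1 * (a : Γ)⁻¹ = y.1
      rw [← mem_centralizer_iff.1 hak.2 (y.1 : Γ) y.1.2, mul_inv_cancel_right]
  have h6 := Camina.index_dvd_card_of_stabilizer_eq ((kerA W A e).subgroupOf A) hst
  have hX : Nat.card X = 6 := by
    haveI := Fintype.ofFinite F
    rw [Nat.card_eq_fintype_card, Fintype.card_subtype,
      show (Finset.univ.filter fun y : F => (y : Γ) ≠ 1 ∧ (y : Γ) ≠ z) =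
        (Finset.univ.erase 1).erase ⟨z, mem_fixd.2 ⟨h.mem, h.fixed e he⟩⟩ from ?_,
      Finset.card_erase_of_mem, Finset.card_erase_of_mem (Finset.mem_univ _), Finset.card_univ,
      ← Nat.card_eq_fintype_card, hq.card]
    · exact Finset.mem_erase.2 ⟨fun e1 => h.ne_one (congrArg Subtype.val e1), Finset.mem_univ _⟩
    · ext y
      simp only [Finset.mem_filter, Finset.mem_univ, true_and, Finset.mem_erase, and_true, ne_eq,
        ← Subtype.coe_inj, OneMemClass.coe_one]
      tauto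
  rw [hX] at h6
  have hne : (kerA W A e).relIndex A ≠ 1 := fun e1 => by
    obtain ⟨a, ha, hax⟩ := h.moved hx hx1 hxz
    exact hax (mem_centralizer_iff.1 (relIndex_eq_one.1 e1 ha).2 x hx).symm
  obtain ⟨i, hi⟩ := h.isPGroup.index ((kerA W A e).subgroupOf A)
  have hi0 : i ≠ 0 := fun e0 => hne (by rw [relIndex, hi, e0, pow_zero])
  have hp6 : p ∣ 6 := (dvd_pow_self p hi0).trans (hi ▸ h6)
  have hp3 : p = 3 := by
    have h1 := h.prime.two_le
    have h2 := Nat.le_of_dvd (by norm_num) hp6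
    have h3 := h.odd
    have h4 := h.prime
    interval_cases p <;> first | rfl | omega | (exfalso; revert h4; norm_num)
  refine ⟨hp3, ?_⟩
  subst hp3
  have hi1 : i = 1 := by
    have h1 : 3 ^ i ≤ 6 := Nat.le_of_dvd (by norm_num) (hi ▸ h6)
    by_contra h2
    have := Nat.pow_le_pow_right (show 1 ≤ 3 by norm_num) (show 2 ≤ i by omega)
    omega
  rw [relIndex, hi, hi1, pow_one]

theorem eq_of_common (h : Data p W A z) {e e' c x x' : Γ} (he : e ∈ A) (he1 : e ≠ 1)
    (hx : x ∈ fixd W e) (hx1 : x ≠ 1) (hxz : x ≠ z) (he' : e' ∈ A) (he1' : e' ≠ 1)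
    (hx' : x' ∈ fixd W e') (hx1' : x' ≠ 1) (hxz' : x' ≠ z) (hc : c ≠ 1) (hce : c ∈ kerA W A e)
    (hce' : c ∈ kerA W A e') : fixd W e = fixd W e' := by
  have key : ∀ {e x : Γ}, e ∈ A → e ≠ 1 → x ∈ fixd W e → x ≠ 1 → x ≠ z → c ∈ kerA W A e →
      fixd W e = fixd W c := by
    intro e x he he1 hx hx1 hxz hce
    have hle : fixd W e ≤ fixd W c := fun y hy =>
      mem_fixd.2 ⟨(mem_fixd.1 hy).1, mem_centralizer_iff.1 hce.2 y hy⟩
    refine eq_of_le_of_card_ge hle ?_
    rw [(h.quat' he he1 hx hx1 hxz).card, (h.quat' hce.1 hc (hle hx) hx1 hxz).card]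
  rw [key he he1 hx hx1 hxz hce, key he' he1' hx' hx1' hxz' hce']

theorem exists_mem_not_trivial (h : Data p W A z) {e : Γ} {M : Subgroup Γ} (hz : z ∈ M)
    (hne : ¬ fixd W e ≤ M) : ∃ x ∈ fixd W e, x ≠ 1 ∧ x ≠ z ∧ x ∉ M := by
  obtain ⟨x, hx, hxM⟩ := SetLike.not_le_iff_exists.1 hne
  exact ⟨x, hx, fun e1 => hxM (e1 ▸ one_mem M), fun e1 => hxM (e1 ▸ hz), hxM⟩

/-- An `A`-invariant subgroup meeting a large fixed-point group outside `⟨z⟩` contains it. -/
theorem fixd_le (h : Data p W A z) {e x : Γ} {T : Subgroup Γ} (he : e ∈ A) (he1 : e ≠ 1)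
    (hx : x ∈ fixd W e) (hx1 : x ≠ 1) (hxz : x ≠ z) (hxT : x ∈ T)
    (hT : ∀ a ∈ A, ∀ y ∈ T, a * y * a⁻¹ ∈ T) : fixd W e ≤ T := by
  haveI : Fact p.Prime := ⟨h.prime⟩
  haveI := Fintype.ofFinite Γ
  have hq := h.quat' he he1 hx hx1 hxz
  obtain ⟨a, ha, hax⟩ := h.moved hx hx1 hxz
  have hsub : fixd W e ⊓ T = fixd W e := by
    refine eq_of_le_of_card_ge inf_le_left ?_
    haveI : Fact (Nat.Prime 2) := ⟨Nat.prime_two⟩
    by_contra hlt
    have hd := card_dvd_of_le (inf_le_left : fixd W e ⊓ T ≤ fixd W e)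
    rw [hq.card] at hlt hd
    have h4 : Nat.card ↥(fixd W e ⊓ T) ≤ 4 := by
      have := Nat.le_of_dvd (by norm_num) hd
      interval_cases Nat.card ↥(fixd W e ⊓ T) <;> omega
    classical
    have hy : a * x * a⁻¹ ∈ fixd W e ⊓ T := ⟨h.toSetup.conj_mem_fixd ha he hx, hT a ha x hxT⟩
    have hy' : a * (a * x * a⁻¹) * a⁻¹ ∈ fixd W e ⊓ T :=
      ⟨h.toSetup.conj_mem_fixd ha he hy.1, hT a ha _ hy.2⟩
    have hxx : x * x = z := by
      rcases hq.square ⟨x, hx⟩ with e1 | e1
      · exact absurd ((h.unique e he he1 x hx (congrArg Subtype.val e1))) (by tauto)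
      · exact congrArg Subtype.val e1
    have hcj : ∀ y : Γ, a * (y * y) * a⁻¹ = (a * y * a⁻¹) * (a * y * a⁻¹) := fun y => by group
    have hzconj : a * z * a⁻¹ = z := by rw [← (h.fixed a ha).eq, mul_inv_cancel_right]
    -- the five elements `1, z, x, x⁻¹, a x a⁻¹`
    haveI := Fintype.ofFinite ↥(fixd W e ⊓ T)
    have hS : ∀ v ∈ ({1, z, x, x⁻¹, a * x * a⁻¹} : Finset Γ), v ∈ fixd W e ⊓ T := by
      intro v hv
      simp only [Finset.mem_insert, Finset.mem_singleton] at hv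
      rcases hv with rfl | rfl | rfl | rfl | rfl
      · exact one_mem _
      · rw [← hxx]; exact mul_mem ⟨hx, hxT⟩ ⟨hx, hxT⟩
      · exact ⟨hx, hxT⟩
      · exact inv_mem ⟨hx, hxT⟩
      · exact hy
    have hc1 : a * x * a⁻¹ ≠ x := fun e1 => hax (mul_inv_eq_iff_eq_mul.1 e1)
    have hc2 : a * x * a⁻¹ ≠ x⁻¹ := by
      intro e1
      -- then `a ^ 2` fixes `x`
      have h2 : (a * a) * x * (a * a)⁻¹ = x := by
        rw [show (a * a) * x * (a * a)⁻¹ = a * (a * x * a⁻¹) * a⁻¹ by group, e1,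
          show a * x⁻¹ * a⁻¹ = (a * x * a⁻¹)⁻¹ by group, e1, inv_inv]
      obtain ⟨k, hk⟩ := IsPGroup.iff_orderOf.1 h.isPGroup ⟨a, ha⟩
      obtain ⟨m, hm⟩ := (h.prime.odd_of_ne_two h.odd).pow (n := k)
      have h3 : a ^ (2 * m + 1) = 1 := by
        rw [← hm]
        have h4 : (⟨a, ha⟩ : A) ^ p ^ k = 1 := hk ▸ pow_orderOf_eq_one _
        simpa using congrArg Subtype.val h4
      have h5 : Commute (a ^ (2 * m)) x := by
        rw [pow_mul, pow_two]; exact (mul_inv_eq_iff_eq_mul.1 h2 : (a * a) * x = x * (a * a)) |> fun c =>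
          (show Commute (a * a) x from c).pow_left m
      rw [pow_succ, mul_eq_one_iff_eq_inv] at h3
      rw [h3] at h5
      exact hax (Commute.inv_left_iff.1 h5)
    have hc3 : a * x * a⁻¹ ≠ 1 := fun e1 => hx1 (conj_eq_one_iff.1 e1)
    have hc4 : a * x * a⁻¹ ≠ z := fun e1 => hxz (by
      rw [← hzconj] at e1
      exact mul_left_cancel (mul_right_cancel e1))
    have hc5 : x⁻¹ ≠ x := fun e1 => by
      have h6 : x * x = 1 := by nth_rewrite 1 [← e1]; exact inv_mul_cancel x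
      exact h.ne_one (hxx ▸ h6)
    have hc6 : x⁻¹ ≠ z := fun e1 => hxz (by
      rw [← inv_inv x, e1, inv_eq_of_mul_eq_one_left h.sq])
    have h5 : 5 ≤ Nat.card ↥(fixd W e ⊓ T) := by
      have hcard : ({1, z, x, x⁻¹, a * x * a⁻¹} : Finset Γ).card = 5 := by
        rw [Finset.card_insert_of_notMem, Finset.card_insert_of_notMem, Finset.card_insert_of_notMem,
          Finset.card_insert_of_notMem, Finset.card_singleton] <;>
          simp only [Finset.mem_insert, Finset.mem_singleton, not_or]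
        · exact Ne.symm hc2
        · exact ⟨Ne.symm hc5, Ne.symm hc1⟩
        · exact ⟨Ne.symm hxz, Ne.symm hc6, Ne.symm hc4⟩
        · exact ⟨Ne.symm h.ne_one, Ne.symm hx1, fun e1 => hx1 (inv_eq_one.1 e1.symm), Ne.symm hc3⟩
      rw [← hcard, Nat.card_eq_fintype_card, Fintype.card_subtype]
      exact Finset.card_le_card fun v hv => by
        simp only [Finset.mem_filter, Finset.mem_univ, true_and]
        exact hS v hv
    omega
  exact inf_eq_left.1 hsub

/-- `[x, y] ∈ ⟨z⟩` for all `y` in a second fixed-point group forces commuting. -/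
theorem commute_of_comm_le (h : Data p W A z) {e e' x x' : Γ} (he : e ∈ A) (he1 : e ≠ 1)
    (hx : x ∈ fixd W e) (hx1 : x ≠ 1) (hxz : x ≠ z) (he' : e' ∈ A) (he1' : e' ≠ 1)
    (hx' : x' ∈ fixd W e') (hx1' : x' ≠ 1) (hxz' : x' ≠ z) (hne : fixd W e ≠ fixd W e')
    (hc : ∀ u ∈ fixd W e, ∀ v ∈ fixd W e', ⁅u, v⁆ = 1 ∨ ⁅u, v⁆ = z) :
    ∀ u ∈ fixd W e, ∀ v ∈ fixd W e', Commute u v := by
  haveI : Fact p.Prime := ⟨h.prime⟩
  intro u hu
  have hzc : ∀ w ∈ W, ∀ c : Γ, (c = 1 ∨ c = z) → Commute c w := by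
    rintro w hw c (rfl | rfl)
    · exact Commute.one_left w
    · exact h.central w hw
  -- `e` acts non-trivially on the second group
  have hek : ¬ Commute e x' := fun hcm => hne (h.eq_of_common he he1 hx hx1 hxz he' he1' hx' hx1' hxz'
    he1 ⟨he, mem_centralizer_iff.2 fun y hy => ((mem_fixd.1 hy).2).eq⟩
    ⟨he, mem_centralizer_iff.2 fun y hy => (h.centralizes_of_fixed he' he1' he hx' hx1' hxz' hcm y hy).eq.symm⟩)
  let T : Subgroup Γ :=
    { carrier := {v | v ∈ fixd W e' ∧ Commute u v}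
      one_mem' := ⟨one_mem _, Commute.one_right u⟩
      mul_mem' := fun a b => ⟨mul_mem a.1 b.1, a.2.mul_right b.2⟩
      inv_mem' := fun a => ⟨inv_mem a.1, a.2.inv_right⟩ }
  have hue : Commute u e := (mem_fixd.1 hu).2
  -- `x'⁻¹ * e x' e⁻¹` centralises `u`
  have hy : e * x' * e⁻¹ ∈ fixd W e' := h.toSetup.conj_mem_fixd he he' hx'
  have hcy : ⁅u, e * x' * e⁻¹⁆ = ⁅u, x'⁆ := by
    have h1 : ⁅u, e * x' * e⁻¹⁆ = e * ⁅u, x'⁆ * e⁻¹ := by
      have h2 : e * u * e⁻¹ = u := by rw [← hue.eq, mul_inv_cancel_right]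
      conv_lhs => rw [← h2]
      simp only [commutatorElement_def]; group
    rw [h1]
    rcases hc u hu x' hx' with e1 | e1 <;> rw [e1]
    · group
    · rw [← (h.fixed e he).eq, mul_inv_cancel_right]
  set v0 := x'⁻¹ * (e * x' * e⁻¹) with hv0
  have hv0m : v0 ∈ fixd W e' := mul_mem (inv_mem hx') hy
  have hv0c : Commute u v0 := by
    have h1 : Commute ⁅u, e * x' * e⁻¹⁆ x' := hzc x' (mem_fixd.1 hx').1 _ (hc u hu _ hy)
    rw [← commutatorElement_eq_one_iff_commute, hv0,
      show ⁅u, x'⁻¹ * (e * x' * e⁻¹)⁆ = ⁅u, x'⁻¹⁆ * (x'⁻¹ * ⁅u, e * x' * e⁻¹⁆ * x') by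
        simp only [commutatorElement_def]; group,
      mul_assoc x'⁻¹, h1.eq, inv_mul_cancel_left, hcy,
      show ⁅u, x'⁻¹⁆ = x'⁻¹ * ⁅u, x'⁆⁻¹ * x' by simp only [commutatorElement_def]; group,
      mul_assoc x'⁻¹, (hzc x' (mem_fixd.1 hx').1 _ (hc u hu _ hx')).inv_left.eq, inv_mul_cancel_left,
      inv_mul_cancel]
  have hv1 : v0 ≠ 1 := fun e1 => hek (mul_inv_eq_iff_eq_mul.1 (inv_mul_eq_one.1 e1).symm)
  have hvz : v0 ≠ z := by
    intro e1
    -- `e x' e⁻¹ = x' z` is impossible for odd order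
    have h1 : e * x' * e⁻¹ = x' * z := by rw [← e1, hv0, mul_inv_cancel_left]
    have h2 : (e * e) * x' * (e * e)⁻¹ = x' := by
      rw [show (e * e) * x' * (e * e)⁻¹ = e * (e * x' * e⁻¹) * e⁻¹ by group, h1,
        show e * (x' * z) * e⁻¹ = (e * x' * e⁻¹) * (e * z * e⁻¹) by group, h1,
        ← (h.fixed e he).eq, mul_inv_cancel_right, mul_assoc, h.sq, mul_one]
    obtain ⟨k, hk⟩ := IsPGroup.iff_orderOf.1 h.isPGroup ⟨e, he⟩
    obtain ⟨m, hm⟩ := (h.prime.odd_of_ne_two h.odd).pow (n := k)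
    have h3 : e ^ (2 * m + 1) = 1 := by
      rw [← hm]
      have h4 : (⟨e, he⟩ : A) ^ p ^ k = 1 := hk ▸ pow_orderOf_eq_one _
      simpa using congrArg Subtype.val h4
    have h5 : Commute (e ^ (2 * m)) x' := by
      rw [pow_mul, pow_two]
      exact (show Commute (e * e) x' from mul_inv_eq_iff_eq_mul.1 h2).pow_left m
    rw [pow_succ, mul_eq_one_iff_eq_inv] at h3
    rw [h3] at h5
    exact hek (Commute.inv_left_iff.1 h5)
  let T' : Subgroup Γ :=
    { carrier := {v | v ∈ fixd W e' ∧ ∀ w ∈ fixd W e, Commute w v}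
      one_mem' := ⟨one_mem _, fun w _ => Commute.one_right w⟩
      mul_mem' := fun a b => ⟨mul_mem a.1 b.1, fun w hw => (a.2 w hw).mul_right (b.2 w hw)⟩
      inv_mem' := fun a => ⟨inv_mem a.1, fun w hw => (a.2 w hw).inv_right⟩ }
  intro v hv
  -- `T` contains `v0` and its `e`-conjugate, hence everything
  have hTe : ∀ w ∈ T, e * w * e⁻¹ ∈ T := fun w hw => ⟨h.toSetup.conj_mem_fixd he he' hw.1, by
    have h1 := (Commute.conj_iff (h := e)).2 hw.2
    rwa [← hue.eq, mul_inv_cancel_right] at h1⟩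
  have hTall : ∀ a ∈ A, ∀ w ∈ T, a * w * a⁻¹ ∈ T := by
    intro a ha w hw
    -- `A = kerA e' * ⟨e⟩`
    have hidx := (h.relIndex_kerA he' he1' hx' hx1' hxz').2
    have hp : Nat.Prime ((kerA W A e').relIndex A) := hidx ▸ Nat.prime_three
    let K' : Subgroup Γ := kerA W A e' ⊔ zpowers e
    have hK : A ≤ K' := by
      rw [← relIndex_eq_one]
      have hd := relIndex_mul_relIndex (kerA W A e') (K' ⊓ A) A (le_inf le_sup_left inf_le_left) inf_le_right
      rcases hp.eq_one_or_self_of_dvd _ ⟨_, hd.symm⟩ with h1 | h1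
      · refine absurd (mem_centralizer_iff.1 ((relIndex_eq_one.1 h1)
          ⟨mem_sup_right (mem_zpowers e), he⟩).2 x' hx').symm hek
      · rw [h1] at hd
        have h2 := (mul_eq_left₀ hp.ne_zero).1 hd
        rwa [inf_relIndex_right] at h2
    have hS : K' ≤ normalizer (T : Set Γ) := by
      refine sup_le (fun k hk => mem_normalizer_fintype fun w hw => ?_)
        (zpowers_le.2 (mem_normalizer_fintype hTe))
      rw [show k * w * k⁻¹ = w by
        rw [← mem_centralizer_iff.1 hk.2 w hw.1, mul_inv_cancel_right]]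
      exact hw
    exact (mem_normalizer_iff.1 (hS (hK ha)) w).1 hw
  exact ((h.fixd_le he' he1' hv0m hv1 hvz (show v0 ∈ T from ⟨hv0m, hv0c⟩) hTall) hv).2

theorem exists_ne_one (h : Setup p W A) : ∃ a ∈ A, a ≠ 1 := by
  by_contra! hall
  exact h.noncyclic (by
    haveI : Subsingleton A := ⟨fun a b => Subtype.ext ((hall a a.2).trans (hall b b.2).symm)⟩
    exact isCyclic_of_subsingleton)

omit [Finite Γ] in
theorem mem_zpowers_z (h : Data p W A z) {x : Γ} (hx : x ∈ zpowers z) : x = 1 ∨ x = z := by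
  obtain ⟨i, rfl⟩ := mem_zpowers_iff.1 hx
  rcases Int.even_or_odd i with ⟨m, hm⟩ | ⟨m, hm⟩
  · left; rw [hm, ← two_mul, zpow_mul, zpow_ofNat, pow_two, h.sq, one_zpow]
  · right; rw [hm, zpow_add, zpow_mul, zpow_ofNat, pow_two, h.sq, one_zpow, one_mul, zpow_one]

omit [Finite Γ] in
theorem z_mem_fixd (h : Data p W A z) {e : Γ} (he : e ∈ A) : z ∈ fixd W e :=
  mem_fixd.2 ⟨h.mem, h.fixed e he⟩

/-- The large fixed-point subgroups. -/
def IsLarge (W A : Subgroup Γ) (z : Γ) (F : Subgroup Γ) : Prop :=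
  ∃ e ∈ A, e ≠ 1 ∧ F = fixd W e ∧ ∃ x ∈ F, x ≠ 1 ∧ x ≠ z

theorem large_or_small (h : Data p W A z) {e : Γ} (he : e ∈ A) (he1 : e ≠ 1) :
    IsLarge W A z (fixd W e) ∨ fixd W e ≤ zpowers z := by
  by_cases hx : ∃ x ∈ fixd W e, x ≠ 1 ∧ x ≠ z
  · exact Or.inl ⟨e, he, he1, rfl, hx⟩
  · refine Or.inr fun x hxF => ?_
    push Not at hx
    by_cases hx1 : x = 1
    · rw [hx1]; exact one_mem _
    · rw [hx x hxF hx1]; exact mem_zpowers z

theorem exists_large (h : Data p W A z) : ∃ F, IsLarge W A z F := by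
  by_contra! hall
  obtain ⟨a, ha, ha1⟩ := exists_ne_one h.toSetup
  have hW : W ≤ zpowers z := h.toSetup.gen le_rfl (fun b hb x hx => h.toSetup.conj_mem hb hx)
    fun e he he1 => inf_le_right.trans ((h.large_or_small he he1).resolve_left (hall _))
  refine ha1 (h.faithful a ha fun w hw => ?_)
  rcases h.mem_zpowers_z (hW hw) with rfl | rfl
  · exact Commute.one_right a
  · exact (h.fixed a ha).symm

theorem exists_other (h : Data p W A z) {F : Subgroup Γ} (hF : IsLarge W A z F) :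
    ∃ F', IsLarge W A z F' ∧ F' ≠ F := by
  by_contra! hall
  obtain ⟨e, he, he1, rfl, -⟩ := hF
  have hW : W ≤ fixd W e := h.toSetup.gen le_rfl (fun b hb x hx => h.toSetup.conj_mem hb hx)
    fun e' he' he1' => by
      rcases h.large_or_small he' he1' with hl | hs
      · rw [← hall _ hl]; exact inf_le_right
      · exact inf_le_right.trans (hs.trans (zpowers_le.2 (h.z_mem_fixd he)))
  exact he1 (h.faithful e he fun w hw => (mem_fixd.1 (hW hw)).2.symm)

theorem large_ker (h : Data p W A z) {F : Subgroup Γ} (hF : IsLarge W A z F) :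
    p = 3 ∧ (A ⊓ centralizer (F : Set Γ)).relIndex A = 3 := by
  obtain ⟨e, he, he1, rfl, x, hx, hx1, hxz⟩ := hF
  exact h.relIndex_kerA he he1 hx hx1 hxz

theorem large_disjoint (h : Data p W A z) {F F' : Subgroup Γ} (hF : IsLarge W A z F)
    (hF' : IsLarge W A z F') (hne : F ≠ F') :
    (A ⊓ centralizer (F : Set Γ)) ⊓ (A ⊓ centralizer (F' : Set Γ)) = ⊥ := by
  obtain ⟨e, he, he1, rfl, x, hx, hx1, hxz⟩ := hF
  obtain ⟨e', he', he1', rfl, x', hx', hx1', hxz'⟩ := hF'
  rw [eq_bot_iff]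
  intro c hc
  rw [mem_bot]
  by_contra hc1
  exact hne (h.eq_of_common he he1 hx hx1 hxz he' he1' hx' hx1' hxz' hc1 hc.1 hc.2)

theorem card_A (h : Data p W A z) : p = 3 ∧ Nat.card A = 9 := by
  obtain ⟨F, hF⟩ := h.exists_large
  obtain ⟨F', hF', hne⟩ := h.exists_other hF
  have hp := (h.large_ker hF).1
  refine ⟨hp, ?_⟩
  have hle : ((A ⊓ centralizer (F : Set Γ)) ⊓ (A ⊓ centralizer (F' : Set Γ))).relIndex A ≤
      (A ⊓ centralizer (F : Set Γ)).relIndex A * (A ⊓ centralizer (F' : Set Γ)).relIndex A := relIndex_inf_le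
  rw [h.large_disjoint hF hF' hne.symm, (h.large_ker hF).2, (h.large_ker hF').2, relIndex_bot_left] at hle
  subst hp
  haveI : Fact (Nat.Prime 3) := ⟨Nat.prime_three⟩
  obtain ⟨n, hn⟩ := IsPGroup.iff_card.1 h.isPGroup
  rcases n with _ | _ | _ | n
  · haveI : Subsingleton A := (Nat.card_eq_one_iff_unique.1 (by simpa using hn)).1
    exact absurd isCyclic_of_subsingleton h.noncyclic
  · exact absurd (isCyclic_of_prime_card (p := 3) (by simpa using hn)) h.noncyclic
  · simpa using hn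
  · rw [hn] at hle
    have := Nat.pow_le_pow_right (show 1 ≤ 3 by norm_num) (show 3 ≤ n + 1 + 1 + 1 by omega)
    omega

theorem card_large (h : Data p W A z) {F : Subgroup Γ} (hF : IsLarge W A z F) :
    Nat.card ↥(A ⊓ centralizer (F : Set Γ)) = 3 := by
  have h1 := relIndex_mul_relIndex ⊥ (A ⊓ centralizer (F : Set Γ)) A bot_le inf_le_left
  rw [relIndex_bot_left, relIndex_bot_left, (h.large_ker hF).2, h.card_A.2] at h1
  omega

omit [Finite Γ] in
theorem large_le {F : Subgroup Γ} (hF : IsLarge W A z F) : F ≤ W := by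
  obtain ⟨e, -, -, rfl, -⟩ := hF
  exact inf_le_left

theorem large_conj (h : Data p W A z) {F : Subgroup Γ} (hF : IsLarge W A z F) :
    ∀ a ∈ A, ∀ x ∈ F, a * x * a⁻¹ ∈ F := by
  obtain ⟨e, he, -, rfl, -⟩ := hF
  exact fun a ha x hx => h.toSetup.conj_mem_fixd ha he hx

theorem large_z (h : Data p W A z) {F : Subgroup Γ} (hF : IsLarge W A z F) : z ∈ F := by
  obtain ⟨e, he, -, rfl, -⟩ := hF
  exact h.z_mem_fixd he

theorem large_card (h : Data p W A z) {F : Subgroup Γ} (hF : IsLarge W A z F) : Nat.card F = 8 := by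
  obtain ⟨e, he, he1, rfl, x, hx, hx1, hxz⟩ := hF
  exact (h.quat' he he1 hx hx1 hxz).card

theorem large_comm (h : Data p W A z) {F : Subgroup Γ} (hF : IsLarge W A z F) :
    ∀ u ∈ F, ∀ v ∈ F, ⁅u, v⁆ = 1 ∨ ⁅u, v⁆ = z := by
  obtain ⟨e, he, he1, rfl, x, hx, hx1, hxz⟩ := hF
  intro u hu v hv
  exact ((h.quat' he he1 hx hx1 hxz).comm ⟨u, hu⟩ ⟨v, hv⟩).imp (congrArg Subtype.val) (congrArg Subtype.val)

theorem large_square (h : Data p W A z) {F : Subgroup Γ} (hF : IsLarge W A z F) :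
    ∀ u ∈ F, u * u = 1 ∨ u * u = z := by
  obtain ⟨e, he, he1, rfl, x, hx, hx1, hxz⟩ := hF
  intro u hu
  exact ((h.quat' he he1 hx hx1 hxz).square ⟨u, hu⟩).imp (congrArg Subtype.val) (congrArg Subtype.val)

theorem large_central (h : Data p W A z) {F : Subgroup Γ} (hF : IsLarge W A z F) {u : Γ} (hu : u ∈ F)
    (hc : ∀ v ∈ F, Commute u v) : u ∈ zpowers z := by
  obtain ⟨e, he, he1, rfl, x, hx, hx1, hxz⟩ := hF
  rcases (h.quat' he he1 hx hx1 hxz).central ⟨u, hu⟩ (fun v => Subtype.ext (hc v v.2).eq) with e1 | e1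
  · rw [show u = 1 from congrArg Subtype.val e1]; exact one_mem _
  · rw [show u = z from congrArg Subtype.val e1]; exact mem_zpowers z

/-- The centre of `W`. -/
theorem center_le (h : Data p W A z) : W ⊓ centralizer (W : Set Γ) ≤ zpowers z := by
  refine h.toSetup.gen inf_le_left (fun a ha x hx => ⟨h.toSetup.conj_mem ha hx.1, ?_⟩) fun e he he1 x hx => ?_
  · refine mem_centralizer_iff.2 fun w hw => ?_
    have h1 := mem_centralizer_iff.1 hx.2 _ (h.toSetup.conj_mem (inv_mem ha) hw)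
    rw [inv_inv] at h1
    calc w * (a * x * a⁻¹) = a * (a⁻¹ * w * a * x) * a⁻¹ := by group
      _ = a * (x * (a⁻¹ * w * a)) * a⁻¹ := by rw [h1]
      _ = a * x * a⁻¹ * w := by group
  · rcases h.large_or_small he he1 with hl | hs
    · exact h.large_central hl hx.2 fun v hv => (mem_centralizer_iff.1 hx.1.2 v (large_le hl hv)).symm
    · exact hs hx.2

/-- Any two large fixed-point subgroups commute elementwise. -/
theorem large_commute (h : Data p W A z) {F F' : Subgroup Γ} (hF : IsLarge W A z F)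
    (hF' : IsLarge W A z F') (hne : F ≠ F') : ∀ u ∈ F, ∀ v ∈ F', Commute u v := by
  classical
  let J : Set (Subgroup Γ) := {F | IsLarge W A z F ∧ ∀ G, IsLarge W A z G → G ≠ F →
    ∀ u ∈ F, ∀ v ∈ G, Commute u v}
  suffices hall : ∀ F, IsLarge W A z F → F ∈ J from fun u hu v hv => (hall F hF).2 F' hF' hne.symm u hu v hv
  by_contra! hbad
  obtain ⟨F₀, hF₀, hF₀J⟩ := hbad
  set M : Subgroup Γ := zpowers z ⊔ sSup J with hM
  have hzM : zpowers z ≤ M := le_sup_left
  have hJM : ∀ G ∈ J, G ≤ M := fun G hG => le_sup_of_le_right (le_sSup hG)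
  have hMW : M ≤ W := sup_le (zpowers_le.2 h.mem) (sSup_le fun G hG => large_le hG.1)
  have hout : ∀ G, IsLarge W A z G → G ∉ J → G ≤ centralizer (M : Set Γ) := by
    intro G hG hGJ
    have key : M ≤ centralizer (G : Set Γ) := by
      refine sup_le (zpowers_le.2 (mem_centralizer_iff.2 fun v hv => (h.central v (large_le hG hv)).eq.symm))
        (sSup_le fun K hK v hv => mem_centralizer_iff.2 fun u hu => ?_)
      exact (hK.2 G hG (fun e1 => hGJ (e1 ▸ hK)) v hv u hu).eq.symm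
    exact le_centralizer_iff.1 key
  have hMA : ∀ a ∈ A, ∀ x ∈ M, a * x * a⁻¹ ∈ M := by
    intro a ha
    suffices M ≤ M.comap (MulAut.conj a).toMonoidHom from fun x hx => this hx
    refine sup_le (zpowers_le.2 ?_) (sSup_le fun K hK x hx => hJM K hK (h.large_conj hK.1 a ha x hx))
    show a * z * a⁻¹ ∈ M
    rw [← (h.fixed a ha).eq, mul_inv_cancel_right]
    exact hzM (mem_zpowers z)
  have hWn : W ≤ normalizer (M : Set Γ) := by
    refine h.toSetup.gen le_rfl (fun a ha x hx => h.toSetup.conj_mem ha hx) fun e he he1 => inf_le_right.trans ?_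
    rcases h.large_or_small he he1 with hl | hs
    · by_cases hJ : fixd W e ∈ J
      · exact (hJM _ hJ).trans le_normalizer
      · exact (hout _ hl hJ).trans (centralizer_le_normalizer _)
    · exact hs.trans (hzM.trans le_normalizer)
  have hnot : ∀ G, IsLarge W A z G → G ∉ J → ¬ G ≤ M := by
    intro G hG hGJ hle
    refine hGJ ⟨hG, fun K hK hKne u hu v hv => ?_⟩
    by_cases hKJ : K ∈ J
    · exact (hKJ.2 G hG hKne.symm v hv u hu).symm
    · exact mem_centralizer_iff.1 (hout K hK hKJ hv) u (hle hu)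
  -- an element of `W` outside `M` which is central modulo `M`
  haveI : (M.subgroupOf W).Normal := normal_subgroupOf_of_le_normalizer hWn
  have hlt : M.subgroupOf W ≠ ⊤ := fun e1 =>
    hnot F₀ hF₀ hF₀J ((large_le hF₀).trans (subgroupOf_eq_top.1 e1))
  let T : Subgroup Γ := ((center (W ⧸ M.subgroupOf W)).comap (QuotientGroup.mk' _)).map W.subtype
  have hTW : T ≤ W := map_subtype_le _
  have hTmem : ∀ x, x ∈ T ↔ x ∈ W ∧ ∀ w ∈ W, ⁅x, w⁆ ∈ M := by
    intro x
    constructor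
    · rintro ⟨⟨y, hy⟩, hyc, rfl⟩
      refine ⟨hy, fun w hw => ?_⟩
      have h1 : ((⁅(⟨y, hy⟩ : W), ⟨w, hw⟩⁆ : W) : W ⧸ M.subgroupOf W) = 1 := by
        rw [← QuotientGroup.mk'_apply, map_commutatorElement, commutatorElement_eq_one_iff_commute]
        exact (mem_center_iff.1 hyc _).symm
      exact mem_subgroupOf.1 ((QuotientGroup.eq_one_iff _).1 h1)
    · rintro ⟨hx, hxc⟩
      refine ⟨⟨x, hx⟩, mem_center_iff.2 fun q => ?_, rfl⟩
      obtain ⟨w, rfl⟩ := QuotientGroup.mk'_surjective _ q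
      have h1 : QuotientGroup.mk' (M.subgroupOf W) ⁅(⟨x, hx⟩ : W), w⁆ = 1 :=
        (QuotientGroup.eq_one_iff _).2 (mem_subgroupOf.2 (hxc w w.2))
      rw [map_commutatorElement, commutatorElement_eq_one_iff_commute] at h1
      exact h1.symm.eq
  have hTA : ∀ a ∈ A, ∀ y ∈ T, a * y * a⁻¹ ∈ T := by
    intro a ha y hy
    rw [hTmem] at hy ⊢
    refine ⟨h.toSetup.conj_mem ha hy.1, fun w hw => ?_⟩
    have h1 := hMA a ha _ (hy.2 _ (h.toSetup.conj_mem (inv_mem ha) hw))
    convert h1 using 1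
    simp only [commutatorElement_def]
    group
  have hTM : ¬ T ≤ M := by
    intro hle
    haveI : Fact (Nat.Prime 2) := ⟨Nat.prime_two⟩
    haveI : Nontrivial (W ⧸ M.subgroupOf W) := by
      refine not_subsingleton_iff_nontrivial.1 fun hs => hlt (eq_top_iff.2 fun w _ => ?_)
      exact (QuotientGroup.eq_one_iff w).1 (Subsingleton.elim _ _)
    haveI := (h.two.to_quotient (M.subgroupOf W)).center_nontrivial
    obtain ⟨c, hc⟩ := exists_ne (1 : center (W ⧸ M.subgroupOf W))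
    obtain ⟨w, hw⟩ := QuotientGroup.mk'_surjective (M.subgroupOf W) (c : W ⧸ M.subgroupOf W)
    refine hc (Subtype.ext ?_)
    rw [← hw]
    exact (QuotientGroup.eq_one_iff w).2 (mem_subgroupOf.2 (hle ⟨w, by
      show QuotientGroup.mk' _ w ∈ center _
      rw [hw]; exact c.2, rfl⟩))
  obtain ⟨e, he, he1, x, hxT, hx, hxM⟩ : ∃ e ∈ A, e ≠ 1 ∧ ∃ x, x ∈ T ∧ x ∈ fixd W e ∧ x ∉ M := by
    by_contra! hno
    exact hTM (h.toSetup.gen hTW hTA fun e he he1 y hy => hno e he he1 y hy.1 hy.2)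
  have hx1 : x ≠ 1 := fun e1 => hxM (e1 ▸ one_mem M)
  have hxz : x ≠ z := fun e1 => hxM (e1 ▸ hzM (mem_zpowers z))
  have hlx : IsLarge W A z (fixd W e) := ⟨e, he, he1, rfl, x, hx, hx1, hxz⟩
  have hxJ : fixd W e ∉ J := fun hJ => hxM (hJM _ hJ hx)
  have hFT : fixd W e ≤ T := h.fixd_le he he1 hx hx1 hxz hxT hTA
  refine hxJ ⟨hlx, fun G hG hGne => ?_⟩
  by_cases hGJ : G ∈ J
  · exact fun u hu v hv => (hGJ.2 _ hlx hGne.symm v hv u hu).symm
  obtain ⟨e', he', he1', rfl, x', hx', hx1', hxz'⟩ := id hG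
  refine h.commute_of_comm_le he he1 hx hx1 hxz he' he1' hx' hx1' hxz' hGne.symm fun u hu v hv => ?_
  refine h.mem_zpowers_z (h.center_le ?_)
  have hm : ⁅u, v⁆ ∈ M := ((hTmem u).1 (hFT hu)).2 v (mem_fixd.1 hv).1
  have hcM : ⁅u, v⁆ ∈ centralizer (M : Set Γ) := by
    have h1 := hout _ hlx hxJ hu
    have h2 := hout _ hG hGJ hv
    rw [commutatorElement_def]
    exact mul_mem (mul_mem (mul_mem h1 h2) (inv_mem h1)) (inv_mem h2)
  refine ⟨hMW hm, ?_⟩
  -- an element of `M` centralising `M` is central in `W`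
  have hall : W ≤ centralizer ({⁅u, v⁆} : Set Γ) := by
    refine h.toSetup.gen le_rfl (fun a ha y hy => h.toSetup.conj_mem ha hy) fun e₁ he₁ he₁1 => inf_le_right.trans ?_
    have hMc : M ≤ centralizer ({⁅u, v⁆} : Set Γ) := fun y hy =>
      mem_centralizer_singleton_iff.2 (mem_centralizer_iff.1 hcM y hy)
    rcases h.large_or_small he₁ he₁1 with hl | hs
    · by_cases hJ : fixd W e₁ ∈ J
      · exact (hJM _ hJ).trans hMc
      · exact fun y hy => mem_centralizer_singleton_iff.2 (mem_centralizer_iff.1 (hout _ hl hJ hy) _ hm).symm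
    · exact hs.trans (hzM.trans hMc)
  exact mem_centralizer_iff.2 fun w hw => mem_centralizer_singleton_iff.1 (hall hw)

theorem comm_mem (h : Data p W A z) : ∀ u ∈ W, ∀ v ∈ W, ⁅u, v⁆ ∈ zpowers z := by
  have hzc : ∀ c ∈ zpowers z, ∀ w ∈ W, Commute c w := fun c hc w hw => by
    rcases h.mem_zpowers_z hc with rfl | rfl
    · exact Commute.one_left w
    · exact h.central w hw
  let C : Γ → Subgroup Γ := fun u =>
    { carrier := {v | v ∈ W ∧ ⁅u, v⁆ ∈ zpowers z}
      one_mem' := ⟨one_mem W, by rw [commutatorElement_one_right]; exact one_mem _⟩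
      mul_mem' := fun {a b} ha hb => ⟨mul_mem ha.1 hb.1, by
        rw [show ⁅u, a * b⁆ = ⁅u, a⁆ * (a * ⁅u, b⁆ * a⁻¹) by simp only [commutatorElement_def]; group,
          ← (hzc _ hb.2 a ha.1).eq, mul_inv_cancel_right]
        exact mul_mem ha.2 hb.2⟩
      inv_mem' := fun {a} ha => ⟨inv_mem ha.1, by
        rw [show ⁅u, a⁻¹⁆ = a⁻¹ * ⁅u, a⁆⁻¹ * a by simp only [commutatorElement_def]; group,
          mul_assoc, (hzc _ (inv_mem ha.2) a ha.1).eq, inv_mul_cancel_left]
        exact inv_mem ha.2⟩ }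
  have hmem : ∀ {e}, e ∈ A → e ≠ 1 → ∀ x ∈ fixd W e, ∀ v ∈ W, ⁅x, v⁆ ∈ zpowers z := by
    intro e he he1 x hx
    refine fun v hv => ((h.toSetup.gen (M := C x) le_rfl (fun a ha y hy => h.toSetup.conj_mem ha hy)
      fun e' he' he1' => inf_le_right.trans fun y hy => ⟨(mem_fixd.1 hy).1, ?_⟩) hv).2
    rcases h.large_or_small he he1 with hl | hs
    · rcases h.large_or_small he' he1' with hl' | hs'
      · rcases eq_or_ne (fixd W e) (fixd W e') with heq | hne
        · rcases h.large_comm hl x hx y (heq ▸ hy) with e1 | e1 <;> rw [e1]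
          · exact one_mem _
          · exact mem_zpowers z
        · rw [commutatorElement_eq_one_iff_commute.2 (h.large_commute hl hl' hne x hx y hy)]
          exact one_mem _
      · rw [commutatorElement_eq_one_iff_commute.2 (hzc y (hs' hy) x (mem_fixd.1 hx).1).symm]
        exact one_mem _
    · rw [commutatorElement_eq_one_iff_commute.2 (hzc x (hs hx) y (mem_fixd.1 hy).1)]
      exact one_mem _
  intro u hu v hv
  refine ((h.toSetup.gen (M := C u) le_rfl (fun a ha y hy => h.toSetup.conj_mem ha hy)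
    fun e he he1 => inf_le_right.trans fun y hy => ⟨(mem_fixd.1 hy).1, ?_⟩) hv).2
  rw [← commutatorElement_inv]
  exact inv_mem (hmem he he1 y hy u hu)

theorem square_mem (h : Data p W A z) : ∀ u ∈ W, u * u ∈ zpowers z := by
  let S : Subgroup Γ :=
    { carrier := {v | v ∈ W ∧ v * v ∈ zpowers z}
      one_mem' := ⟨one_mem W, by rw [one_mul]; exact one_mem _⟩
      mul_mem' := fun {a b} ha hb => ⟨mul_mem ha.1 hb.1, by
        rw [show a * b * (a * b) = a * a * ⁅a⁻¹, b⁆ * (b * b) by simp only [commutatorElement_def]; group]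
        exact mul_mem (mul_mem ha.2 (h.comm_mem _ (inv_mem ha.1) _ hb.1)) hb.2⟩
      inv_mem' := fun {a} ha => ⟨inv_mem ha.1, by rw [← mul_inv_rev]; exact inv_mem ha.2⟩ }
  intro u hu
  refine ((h.toSetup.gen (M := S) le_rfl (fun a ha y hy => h.toSetup.conj_mem ha hy)
    fun e he he1 => inf_le_right.trans fun y hy => ⟨(mem_fixd.1 hy).1, ?_⟩) hu).2
  rcases h.large_or_small he he1 with hl | hs
  · rcases h.large_square hl y hy with e1 | e1 <;> rw [e1]
    · exact one_mem _
    · exact mem_zpowers z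
  · exact mul_mem (hs hy) (hs hy)

theorem card_zpowers_z (h : Data p W A z) : Nat.card (zpowers z) = 2 := by
  haveI : Fact (Nat.Prime 2) := ⟨Nat.prime_two⟩
  rw [Nat.card_zpowers]
  exact orderOf_eq_prime (by rw [pow_two, h.sq]) h.ne_one

/-- The order of the subgroup generated by some of the large fixed-point subgroups. -/
theorem card_join (h : Data p W A z) (s : Finset (Subgroup Γ)) (hs : ∀ F ∈ s, IsLarge W A z F) :
    Nat.card ↥(zpowers z ⊔ s.sup id) = 2 ^ (2 * s.card + 1) := by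
  classical
  induction s using Finset.induction_on with
  | empty => rw [Finset.sup_empty, sup_bot_eq, h.card_zpowers_z]; rfl
  | @insert F s hFs ih =>
    have hF := hs F (Finset.mem_insert_self F s)
    specialize ih fun G hG => hs G (Finset.mem_insert_of_mem hG)
    set B := zpowers z ⊔ s.sup id with hB
    have hBc : B ≤ centralizer (F : Set Γ) := by
      refine sup_le (zpowers_le.2 (mem_centralizer_iff.2 fun v hv => (h.central v (large_le hF hv)).eq.symm))
        (Finset.sup_le fun G hG v hv => mem_centralizer_iff.2 fun u hu => ?_)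
      exact (h.large_commute hF (hs G (Finset.mem_insert_of_mem hG)) (fun e1 => hFs (e1 ▸ hG)) u hu v hv).eq
    have hinf : B ⊓ F = zpowers z := le_antisymm
      (fun u hu => h.large_central hF hu.2 fun v hv => (mem_centralizer_iff.1 (hBc hu.1) v hv).symm)
      (le_inf le_sup_left (zpowers_le.2 (h.large_z hF)))
    set N := B ⊔ F
    haveI : (F.subgroupOf N).Normal := normal_subgroupOf_of_le_normalizer
      (sup_le (hBc.trans (centralizer_le_normalizer _)) le_normalizer)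
    have hc := Core.card_sup_mul_card_inf (B.subgroupOf N) (F.subgroupOf N)
    rw [← subgroupOf_sup le_sup_left le_sup_right,
      show B.subgroupOf N ⊓ F.subgroupOf N = (B ⊓ F).subgroupOf N from (comap_inf _ _ _).symm,
      Nat.card_congr (subgroupOfEquivOfLe (le_refl N)).toEquiv,
      Nat.card_congr (subgroupOfEquivOfLe (inf_le_left.trans le_sup_left : B ⊓ F ≤ N)).toEquiv,
      Nat.card_congr (subgroupOfEquivOfLe (le_sup_left : B ≤ N)).toEquiv,
      Nat.card_congr (subgroupOfEquivOfLe (le_sup_right : F ≤ N)).toEquiv,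
      hinf, h.card_zpowers_z, ih, h.large_card hF] at hc
    rw [Finset.sup_insert, id, Finset.card_insert_of_notMem hFs,
      show zpowers z ⊔ (F ⊔ s.sup id) = N by rw [show N = B ⊔ F from rfl, hB, sup_assoc, sup_comm F]]
    rw [show (2 * (s.card + 1) + 1) = (2 * s.card + 1) + 2 by ring, pow_add]
    omega

theorem card_W (h : Data p W A z) :
    Nat.card W = 2 ^ 5 ∨ Nat.card W = 2 ^ 7 ∨ Nat.card W = 2 ^ 9 := by
  classical
  haveI := Fintype.ofFinite Γ
  set Fs : Finset (Subgroup Γ) := Finset.univ.filter (IsLarge W A z)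
  have hFs : ∀ F, F ∈ Fs ↔ IsLarge W A z F := fun F => by simp [Fs]
  have hW : W = zpowers z ⊔ Fs.sup id := by
    refine le_antisymm ?_ (sup_le (zpowers_le.2 h.mem) (Finset.sup_le fun F hF => large_le ((hFs F).1 hF)))
    refine h.toSetup.gen le_rfl (fun a ha x hx => h.toSetup.conj_mem ha hx) fun e he he1 => inf_le_right.trans ?_
    rcases h.large_or_small he he1 with hl | hs
    · exact le_sup_of_le_right (Finset.le_sup (f := id) ((hFs _).2 hl))
    · exact hs.trans le_sup_left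
  have h2 : 2 ≤ Fs.card := by
    obtain ⟨F, hF⟩ := h.exists_large
    obtain ⟨F', hF', hne⟩ := h.exists_other hF
    exact Finset.one_lt_card.2 ⟨F', (hFs F').2 hF', F, (hFs F).2 hF, hne⟩
  let K : Subgroup Γ → Finset Γ := fun F =>
    Finset.univ.filter fun a => a ∈ A ⊓ centralizer (F : Set Γ) ∧ a ≠ 1
  have hK : ∀ F ∈ Fs, (K F).card = 2 := fun F hF => by
    have h1 := h.card_large ((hFs F).1 hF)
    rw [Nat.card_eq_fintype_card, Fintype.card_subtype] at h1
    rw [show K F = (Finset.univ.filter fun a => a ∈ A ⊓ centralizer (F : Set Γ)).erase 1 by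
      ext a; simp [K]; tauto, Finset.card_erase_of_mem (by simp), h1]
  have hd : (Fs : Set (Subgroup Γ)).PairwiseDisjoint K := by
    intro F hF G hG hne
    refine Finset.disjoint_left.2 fun a ha ha' => ?_
    simp only [K, Finset.mem_filter] at ha ha'
    have hbot := h.large_disjoint ((hFs F).1 hF) ((hFs G).1 hG) hne
    have hmem : a ∈ (A ⊓ centralizer (F : Set Γ)) ⊓ (A ⊓ centralizer (G : Set Γ)) := ⟨ha.2.1, ha'.2.1⟩
    rw [hbot, mem_bot] at hmem
    exact ha.2.2 hmem
  have h4 : Fs.card * 2 ≤ 8 := by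
    have h1 : Fs.biUnion K ⊆ (Finset.univ.filter fun a => a ∈ A).erase 1 := fun a ha => by
      obtain ⟨F, -, ha⟩ := Finset.mem_biUnion.1 ha
      simp only [K, Finset.mem_filter] at ha
      exact Finset.mem_erase.2 ⟨ha.2.2, Finset.mem_filter.2 ⟨Finset.mem_univ _, ha.2.1.1⟩⟩
    have h2 := Finset.card_le_card h1
    have h3 := h.card_A.2
    rw [Nat.card_eq_fintype_card, Fintype.card_subtype] at h3
    rw [Finset.card_biUnion hd, Finset.sum_const_nat hK, Finset.card_erase_of_mem (by simp), h3] at h2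
    exact h2
  have hc := h.card_join Fs fun F hF => (hFs F).1 hF
  rw [← hW] at hc
  obtain h5 | h5 | h5 : Fs.card = 2 ∨ Fs.card = 3 ∨ Fs.card = 4 := by omega
  all_goals rw [hc, h5]; decide

theorem center_eq (h : Data p W A z) : center W = (zpowers z).subgroupOf W := by
  refine le_antisymm (fun c hc => mem_subgroupOf.2 (h.center_le ⟨c.2, mem_centralizer_iff.2 fun w hw =>
    congrArg Subtype.val (mem_center_iff.1 hc ⟨w, hw⟩)⟩)) fun c hc => mem_center_iff.2 fun w => Subtype.ext ?_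
  show (w : Γ) * c = c * w
  rcases h.mem_zpowers_z (mem_subgroupOf.1 hc) with e | e <;> rw [e]
  · simp
  · exact (h.central w w.2).eq.symm

theorem isExtraspecial (h : Data p W A z) : Cfsg.IsExtraspecial 2 W := by
  haveI : Fact (Nat.Prime 2) := ⟨Nat.prime_two⟩
  have hz2 : Nat.card ↥(center W) = 2 := by
    rw [h.center_eq, Nat.card_congr (subgroupOfEquivOfLe (zpowers_le.2 h.mem)).toEquiv, h.card_zpowers_z]
  have hnc : ¬ ∀ u v : W, Commute u v := by
    intro hc
    have htop : center W = ⊤ := eq_top_iff.2 fun u _ => mem_center_iff.2 fun v => (hc v u).eq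
    rw [htop, card_top] at hz2
    rcases h.card_W with e | e | e <;> omega
  obtain ⟨u, v, huv⟩ : ∃ u v : W, ¬ Commute u v := by push Not at hnc; exact hnc
  have hle : commutator W ≤ center W := by
    rw [commutator_def, commutator_le, h.center_eq]
    exact fun a _ b _ => mem_subgroupOf.2 (h.comm_mem a a.2 b b.2)
  have hcomm : commutator W = center W := by
    refine eq_of_le_of_card_ge hle (hz2.le.trans ?_)
    haveI : Nontrivial ↥(commutator W) := ⟨⟨⟨⁅u, v⁆, by
      rw [commutator_def]; exact commutator_mem_commutator (mem_top u) (mem_top v)⟩, 1, fun e1 =>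
        huv (commutatorElement_eq_one_iff_commute.1 (congrArg Subtype.val e1))⟩⟩
    exact Finite.one_lt_card
  have hfr : frattini W ≤ center W := MaxClass.mem_frattini_sq h.two _ fun x => by
    rw [h.center_eq]; exact mem_subgroupOf.2 (h.square_mem x x.2)
  refine ⟨⟨h.two, le_antisymm hfr ?_, hcomm⟩, hz2⟩
  rw [← hcomm]
  obtain ⟨n, hn⟩ := IsPGroup.iff_card.1 h.two
  obtain ⟨hab, -⟩ := FGS.frattini_quotient_props hn
  rw [commutator_def, commutator_le]
  intro a _ b _
  rw [← QuotientGroup.eq_one_iff, ← QuotientGroup.mk'_apply, map_commutatorElement,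
    commutatorElement_eq_one_iff_commute]
  exact hab _ _

end Data

end Setup

end Cfsg.Agent.SmallFixed
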